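import Mathlib.LinearAlgebra.Dimension.Constructions
import Mathlib.LinearAlgebra.FiniteDimensional.Lemmas
import Mathlib.FieldTheory.Finite.Basic
import Mathlib.Tactic

/-!
# No ovoids in `Sp_6(q)` (helper151)

* **`no_ovoid`** : a symplectic space of dimension `6` over `F`, `|F| = q`, has no `q^3 + 1` vectors which are pairwise
  non-orthogonal.
-/

set_option autoImplicit false

namespace Cfsg.Agent.H151.Six

open Finset

section

variable {F : Type*} [Field F] [Fintype F] {V : Type*} [AddCommGroup V] [Module F V] [Fintype V]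

/-- the kernel of a surjective map -/
theorem card_ker_of_surj {V' : Type*} [AddCommGroup V'] [Module F V'] [Fintype V'] [DecidableEq V']
    (L : V →ₗ[F] V') (hL : Function.Surjective L) {k : ℕ}
    (hk : Module.finrank F V = Module.finrank F V' + k) :
    #{u : V | L u = 0} = Fintype.card F ^ k := by
  classical
  have h1 := L.finrank_range_add_finrank_ker
  rw [LinearMap.range_eq_top.2 hL, finrank_top] at h1
  have h2 : Module.finrank F (LinearMap.ker L) = k := by omega
  rw [← h2, ← Module.card_eq_pow_finrank (K := F) (V := LinearMap.ker L), Fintype.card_subtype]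
  congr 1
  ext u
  simp

/-- the kernel of any map -/
theorem dvd_card_ker {V' : Type*} [AddCommGroup V'] [Module F V'] [Fintype V'] [DecidableEq V']
    (L : V →ₗ[F] V') {k : ℕ} (hk : Module.finrank F V' + k ≤ Module.finrank F V) :
    Fintype.card F ^ k ∣ #{u : V | L u = 0} := by
  classical
  have h1 := L.finrank_range_add_finrank_ker
  have h3 : Module.finrank F (LinearMap.range L) ≤ Module.finrank F V' := Submodule.finrank_le _
  have h2 : k ≤ Module.finrank F (LinearMap.ker L) := by omega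
  have h4 : #{u : V | L u = 0} = Fintype.card F ^ Module.finrank F (LinearMap.ker L) := by
    rw [← Module.card_eq_pow_finrank (K := F) (V := LinearMap.ker L), Fintype.card_subtype]
    congr 1
    ext u
    simp
  rw [h4]
  exact pow_dvd_pow _ h2

variable (f : V →ₗ[F] V →ₗ[F] F) (halt : ∀ v, f v v = 0)
  (hdim : Module.finrank F V = 6) {ι : Type*} [Fintype ι] [DecidableEq ι] (x : ι → V)
  (hx : ∀ i j, i ≠ j → f (x i) (x j) ≠ 0) (hι : Fintype.card ι = Fintype.card F ^ 3 + 1)
include halt hdim hx hι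

/-- **No ovoids.** -/
theorem no_ovoid : False := by
  classical
  set q := Fintype.card F with hq
  have hq2 : 2 ≤ q := Fintype.one_lt_card
  have hne : ∀ i : ι, ∃ j : ι, j ≠ i := by
    intro i
    by_contra hcon
    push Not at hcon
    have h1 : Fintype.card ι ≤ 1 := Fintype.card_le_one_iff.2 fun a b => by rw [hcon a, hcon b]
    rw [hι] at h1
    have : 0 < q ^ 3 := by positivity
    omega
  -- `|x^⊥|`
  have ha : ∀ i, #{u : V | f u (x i) = 0} = q ^ 5 := by
    intro i
    obtain ⟨j, hj⟩ := hne i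
    refine card_ker_of_surj (f.flip (x i)) ?_ (by rw [hdim, Module.finrank_self])
    intro a
    refine ⟨(a / f (x j) (x i)) • x j, ?_⟩
    rw [LinearMap.flip_apply, map_smul, LinearMap.smul_apply, smul_eq_mul, div_mul_cancel₀ _ (hx j i hj)]
  have hb : ∀ i j, i ≠ j → #{u : V | f u (x i) = 0 ∧ f u (x j) = 0} = q ^ 4 := by
    intro i j hij
    have h1 := card_ker_of_surj (k := 4) ((f.flip (x i)).prod (f.flip (x j))) ?_ (by
      rw [hdim, Module.finrank_prod, Module.finrank_self])
    · rw [← hq] at h1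
      rw [← h1]
      congr 1
      ext u
      simp
    · rintro ⟨a, b⟩
      refine ⟨(a / f (x j) (x i)) • x j + (b / f (x i) (x j)) • x i, ?_⟩
      have h2 := halt (x i)
      have h3 := halt (x j)
      ext
      · simp [LinearMap.prod_apply, h2, div_mul_cancel₀ _ (hx j i hij.symm)]
      · simp [LinearMap.prod_apply, h3, div_mul_cancel₀ _ (hx i j hij)]
  have hc : ∀ i j k, (q ^ 3) ∣ #{u : V | (f u (x i) = 0 ∧ f u (x j) = 0) ∧ f u (x k) = 0} := by
    intro i j k
    have h1 := dvd_card_ker (k := 3) (((f.flip (x i)).prod (f.flip (x j))).prod (f.flip (x k))) (by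
      rw [hdim, Module.finrank_prod, Module.finrank_prod, Module.finrank_self])
    rw [← hq] at h1
    convert h1 using 2
    ext u
    simp
  -- the degree
  let D : V → ℤ := fun u => ∑ i, if f u (x i) = 0 then 1 else 0
  have hD : ∀ u, D u = ∑ i, if f u (x i) = 0 then (1 : ℤ) else 0 := fun u => rfl
  set N : ℤ := (q : ℤ) ^ 3 + 1 with hN
  have hιZ : (Fintype.card ι : ℤ) = N := by rw [hι, hN]; push_cast; ring
  have s0 : ∑ _u : V, (1 : ℤ) = (q : ℤ) ^ 6 := by
    rw [Finset.sum_const, Finset.card_univ, Module.card_eq_pow_finrank (K := F) (V := V), hdim]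
    simp [hq]
  have s1 : ∑ u, D u = N * (q : ℤ) ^ 5 := by
    simp only [hD]
    rw [Finset.sum_comm]
    have h1 : ∀ i, (∑ u : V, if f u (x i) = 0 then (1 : ℤ) else 0) = (q : ℤ) ^ 5 := by
      intro i
      rw [Finset.sum_boole, ha i]
      push_cast
      ring
    rw [Finset.sum_congr rfl fun i _ => h1 i, Finset.sum_const, Finset.card_univ, nsmul_eq_mul, hιZ]
  have s2 : ∑ u, D u * D u = N * (q : ℤ) ^ 5 + (N * N - N) * (q : ℤ) ^ 4 := by
    have h0 : ∀ u, D u * D u = ∑ i, ∑ j, if (f u (x i) = 0 ∧ f u (x j) = 0) then (1 : ℤ) else 0 := by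
      intro u
      rw [hD, Finset.sum_mul_sum]
      refine Finset.sum_congr rfl fun i _ => Finset.sum_congr rfl fun j _ => ?_
      by_cases h1 : f u (x i) = 0 <;> by_cases h2 : f u (x j) = 0 <;> simp [h1, h2]
    simp only [h0]
    rw [Finset.sum_comm]
    have h1 : ∀ i, (∑ u : V, ∑ j, if (f u (x i) = 0 ∧ f u (x j) = 0) then (1 : ℤ) else 0) =
        (q : ℤ) ^ 5 + (N - 1) * (q : ℤ) ^ 4 := by
      intro i
      rw [Finset.sum_comm]
      have h2 : ∀ j, (∑ u : V, if (f u (x i) = 0 ∧ f u (x j) = 0) then (1 : ℤ) else 0) =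
          if j = i then (q : ℤ) ^ 5 else (q : ℤ) ^ 4 := by
        intro j
        rw [Finset.sum_boole]
        by_cases hij : j = i
        · rw [if_pos hij, hij]
          simp only [and_self]
          rw [ha i]
          push_cast
          ring
        · rw [if_neg hij, hb i j (Ne.symm hij)]
          push_cast
          ring
      rw [Finset.sum_congr rfl fun j _ => h2 j, ← Finset.add_sum_erase _ _ (Finset.mem_univ i), if_pos rfl]
      congr 1
      rw [Finset.sum_congr rfl fun j hj => if_neg (Finset.ne_of_mem_erase hj), Finset.sum_const,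
        Finset.card_erase_of_mem (Finset.mem_univ i), Finset.card_univ, nsmul_eq_mul]
      congr 1
      rw [Nat.cast_sub (by rw [hι]; omega), hιZ]
      simp
    rw [Finset.sum_congr rfl fun i _ => h1 i, Finset.sum_const, Finset.card_univ, nsmul_eq_mul, hιZ]
    ring
  -- the exceptional vectors
  let e : Option (ι × Fˣ) → V := fun o => o.elim 0 fun y => (y.2 : F) • x y.1
  have hx0 : ∀ i, x i ≠ 0 := by
    intro i h0
    obtain ⟨j, hj⟩ := hne i
    exact hx j i hj (by rw [h0, map_zero])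
  have hpar : ∀ i j (a b : Fˣ), (a : F) • x i = (b : F) • x j → i = j := by
    intro i j a b h
    by_contra hij
    have h1 := congrArg (fun z => f z (x j)) h
    simp only [map_smul, LinearMap.smul_apply, halt, smul_eq_mul, mul_zero] at h1
    rcases mul_eq_zero.1 h1 with h2 | h2
    · exact a.ne_zero h2
    · exact hx i j hij h2
  have he : Function.Injective e := by
    rintro (_ | ⟨i, a⟩) (_ | ⟨j, b⟩) h
    · rfl
    · exfalso
      have h1 : (0 : V) = (b : F) • x j := h
      exact smul_ne_zero b.ne_zero (hx0 j) h1.symm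
    · exfalso
      have h1 : (a : F) • x i = (0 : V) := h
      exact smul_ne_zero a.ne_zero (hx0 i) h1
    · have h1 : (a : F) • x i = (b : F) • x j := h
      obtain rfl := hpar i j a b h1
      have h2 : (a : F) = b := by
        have h3 : ((a : F) - b) • x i = 0 := by rw [sub_smul, h1, sub_self]
        rcases smul_eq_zero.1 h3 with h4 | h4
        · exact sub_eq_zero.1 h4
        · exact absurd h4 (hx0 i)
      rw [Units.ext h2]
  have hDe : ∀ i (a : Fˣ), D ((a : F) • x i) = 1 := by
    intro i a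
    rw [hD, Finset.sum_eq_single i]
    · rw [if_pos (by rw [map_smul, LinearMap.smul_apply, halt, smul_zero])]
    · intro j _ hj
      rw [if_neg]
      rw [map_smul, LinearMap.smul_apply, smul_eq_mul]
      exact mul_ne_zero a.ne_zero (hx i j (Ne.symm hj))
    · intro h
      exact absurd (Finset.mem_univ i) h
  have hD0 : D 0 = N := by
    rw [hD, ← hιZ]
    simp
  set c : ℤ := (q : ℤ) ^ 2 + 1 with hcdef
  have t1 : ∑ u, (D u - c) ^ 2 = N * (q : ℤ) ^ 5 + (N * N - N) * (q : ℤ) ^ 4 - 2 * c * (N * (q : ℤ) ^ 5) +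
      c ^ 2 * (q : ℤ) ^ 6 := by
    have h1 : ∀ u, (D u - c) ^ 2 = D u * D u - 2 * c * D u + c ^ 2 * 1 := fun u => by ring
    rw [Finset.sum_congr rfl fun u _ => h1 u, Finset.sum_add_distrib, Finset.sum_sub_distrib, ← Finset.mul_sum,
      ← Finset.mul_sum, s0, s1, s2]
  have t2 : ∑ u ∈ univ.image e, (D u - c) ^ 2 = (N - c) ^ 2 + N * ((q : ℤ) - 1) * (1 - c) ^ 2 := by
    rw [Finset.sum_image (fun a _ b _ h => he h), Fintype.sum_option]
    have h1 : ∀ y : ι × Fˣ, (D (e (some y)) - c) ^ 2 = (1 - c) ^ 2 := by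
      intro y
      have h2 : e (some y) = (y.2 : F) • x y.1 := rfl
      rw [h2, hDe]
    have h3 : e none = 0 := rfl
    rw [Finset.sum_congr rfl fun y _ => h1 y, Finset.sum_const, Finset.card_univ, Fintype.card_prod,
      Fintype.card_units, h3, hD0, nsmul_eq_mul]
    push_cast
    rw [hιZ, Nat.cast_sub (by omega)]
    push_cast
    ring
  have t3 : ∑ u ∈ univ \ univ.image e, (D u - c) ^ 2 = 0 := by
    have h1 := Finset.sum_sdiff (f := fun u => (D u - c) ^ 2) (Finset.subset_univ (univ.image e))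
    rw [t1, t2] at h1
    have h2 : ∑ u ∈ univ \ univ.image e, (D u - c) ^ 2 = N * (q : ℤ) ^ 5 + (N * N - N) * (q : ℤ) ^ 4 -
        2 * c * (N * (q : ℤ) ^ 5) + c ^ 2 * (q : ℤ) ^ 6 - ((N - c) ^ 2 + N * ((q : ℤ) - 1) * (1 - c) ^ 2) := by
      linarith
    rw [h2, hN, hcdef]
    ring
  have hrest : ∀ u, u ∉ univ.image e → D u = c := by
    intro u hu
    have h1 := (Finset.sum_eq_zero_iff_of_nonneg fun u _ => sq_nonneg (D u - c)).1 t3 u
      (Finset.mem_sdiff.2 ⟨Finset.mem_univ _, hu⟩)
    have h2 : D u - c = 0 := by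
      exact pow_eq_zero_iff (two_ne_zero) |>.1 h1
    linarith
  -- a hyperbolic plane
  obtain ⟨i, j, hij⟩ : ∃ i j : ι, i ≠ j := by
    have h0 : 0 < Fintype.card ι := by rw [hι]; omega
    obtain ⟨i⟩ := Fintype.card_pos_iff.1 h0
    obtain ⟨j, hj⟩ := hne i
    exact ⟨i, j, hj.symm⟩
  set W : Finset V := {u : V | f u (x i) = 0 ∧ f u (x j) = 0} with hW
  have hWc : #W = q ^ 4 := hb i j hij
  have h0W : (0 : V) ∈ W := by simp [hW]
  have hWe : ∀ u ∈ W, u ≠ 0 → D u = c := by
    intro u hu hu0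
    apply hrest
    intro hmem
    obtain ⟨o, -, ho⟩ := Finset.mem_image.1 hmem
    rw [hW, Finset.mem_filter] at hu
    rcases o with _ | ⟨k, a⟩
    · exact hu0 ho.symm
    · have h1 : (a : F) • x k = u := ho
      rw [← h1] at hu
      simp only [map_smul, LinearMap.smul_apply, smul_eq_mul, mul_eq_zero, a.ne_zero, false_or] at hu
      by_cases hk : k = i
      · rw [hk] at hu
        exact hx i j hij hu.2.2
      · exact hx k i hk hu.2.1
  have w1 : ∑ u ∈ W, D u = N + ((q : ℤ) ^ 4 - 1) * c := by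
    rw [← Finset.add_sum_erase _ _ h0W, hD0, Finset.sum_congr rfl fun u hu =>
      hWe u (Finset.mem_of_mem_erase hu) (Finset.ne_of_mem_erase hu), Finset.sum_const,
      Finset.card_erase_of_mem h0W, hWc, nsmul_eq_mul, Nat.cast_sub (Nat.one_le_pow _ _ (by omega))]
    push_cast
    ring
  have w2 : (q : ℤ) ^ 3 ∣ ∑ u ∈ W, D u := by
    simp only [hD]
    rw [Finset.sum_comm]
    refine Finset.dvd_sum fun k _ => ?_
    rw [Finset.sum_boole]
    have h1 := hc i j k
    rw [hW, Finset.filter_filter]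
    exact_mod_cast h1
  rw [w1] at w2
  have w3 : N + ((q : ℤ) ^ 4 - 1) * c = (q : ℤ) ^ 3 * ((q : ℤ) ^ 3 + q + 1) - (q : ℤ) ^ 2 := by
    rw [hN, hcdef]
    ring
  rw [w3] at w2
  have w4 : (q : ℤ) ^ 3 ∣ (q : ℤ) ^ 2 := by
    have h1 := dvd_sub (Dvd.intro _ rfl : (q : ℤ) ^ 3 ∣ (q : ℤ) ^ 3 * ((q : ℤ) ^ 3 + q + 1)) w2
    have h2 : (q : ℤ) ^ 3 * ((q : ℤ) ^ 3 + q + 1) - ((q : ℤ) ^ 3 * ((q : ℤ) ^ 3 + q + 1) - (q : ℤ) ^ 2) =
        (q : ℤ) ^ 2 := by ring
    rwa [h2] at h1
  have w5 : q ^ 3 ∣ q ^ 2 := by exact_mod_cast w4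
  have w6 := Nat.le_of_dvd (by positivity) w5
  nlinarith [pow_pos (show 0 < q by omega) 2]

end

end Cfsg.Agent.H151.Six
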