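import Cfsg.Agent.H151.Six.W0Sym
import Cfsg.Agent.H151.Six.Ovoid
import Cfsg.Agent.H905.MdO
import Cfsg.Agent.H914.SixBase

/-!
# The highest weight vector over the finite field (helper151)

* `exists_alt` : the matrix of a fixed alternating form;
* `exists_hw` : the vector fixed by `U`, over `F`; the form does not vanish on it and its image under `g₀`;
* `sp1_ne` : rank one, `f(v, y v) ≠ 0` for `y ∉ B`;
* **`sp1_no_ovoid`** : rank one, `|U| = q^3`, dimension `6`: impossible.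
-/

set_option autoImplicit false
set_option linter.unusedSectionVars false
set_option linter.style.haveILetI false

namespace Cfsg.Agent.H151.Six

open Matrix CoxeterSystem Cfsg.Agent.ChevalleyStructure.CoxeterGeom Cfsg.Agent.Tits.Roots Cfsg.Agent.Tits.Core
  Cfsg.Agent.Tits.Exchange Cfsg.Agent.Nodes.Reps Cfsg.Agent.Nodes.BNOf Cfsg.Agent.Nodes.StabComb
  Cfsg.Agent.Nodes.Bruhat Cfsg.Agent.Nodes.OppDec Cfsg.Agent.Nodes.LeviDec Cfsg.Agent.KFacts.RgdOpp
  Cfsg.Agent.Omega.CR Cfsg.Agent.Omega.FOne.Lift.Sd Cfsg.Agent.H911 Cfsg.Agent.H905.Md Cfsg.Agent.Nodes.RGDLib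
  Cfsg.Agent.Nodes.RootsA
open Cfsg.Agent.LieRecognition.BNCox (cA cA_apply)
open Cfsg Cfsg.Geo Cfsg.Agent.H915.LD
open scoped MatrixGroups

section Gram

variable {F : Type*} [Field F] {ι : Type} [Fintype ι] [DecidableEq ι]

/-- the matrix of a symplectic form fixed by `P` -/
theorem exists_alt {P : Subgroup (GL ι F)} (h : FixA P) :
    ∃ B : Matrix ι ι F, Bᵀ = -B ∧ (∀ v, v ⬝ᵥ (B *ᵥ v) = 0) ∧ IsUnit B.det ∧
      ∀ g ∈ P, (g : Matrix ι ι F)ᵀ * B * (g : Matrix ι ι F) = B := by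
  obtain ⟨f, hf, hfix⟩ := h
  obtain ⟨B, hB⟩ := exists_gram hf.bilinear
  refine ⟨B, ?_, ?_, ?_, ?_⟩
  · apply ext_dot
    intro u v
    have h1 := hf.skew u v
    rw [hB, hB] at h1
    have h2 : u ⬝ᵥ (Bᵀ *ᵥ v) = v ⬝ᵥ (B *ᵥ u) := by
      rw [Matrix.mulVec_transpose, dotProduct_comm, Matrix.dotProduct_mulVec]
    rw [h2, Matrix.neg_mulVec, dotProduct_neg, h1, neg_neg]
  · intro v
    rw [← hB]
    exact hf.alternating v
  · rw [← Matrix.isUnit_iff_isUnit_det, ← Matrix.mulVec_injective_iff_isUnit]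
    rw [← Matrix.coe_mulVecLin, injective_iff_map_eq_zero]
    intro v hv
    by_contra hv0
    obtain ⟨⟨x, hx⟩, -⟩ := hf.nondegenerate v hv0
    apply hx
    rw [Matrix.mulVecLin_apply] at hv
    rw [hB, hv, dotProduct_zero]
  · intro g hg
    apply ext_dot
    intro u v
    have h1 := hfix _ ⟨g, hg, rfl⟩ u v
    dsimp only at h1
    rw [hB, hB, dot_mulVec_left, Matrix.mulVec_mulVec] at h1
    exact h1

theorem fixA_of_hyp {F : Type*} [Field F] {m : ℕ} {H P : Subgroup (GL (Fin m ⊕ Fin m) F)}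
    (S : H914.S6.Hyp m H P) : FixA P :=
  ⟨sympForm m F, H924.isSymplecticForm_sympForm, H914.S6.fixes_of_le S.P_le⟩

end Gram

section PFix

variable {F : Type*} [Field F] [Finite F] {ι : Type} [Fintype ι] [DecidableEq ι] {Y : Type*} [Group Y]

/-- a `p`-group fixes a vector -/
theorem exists_fixed {p : ℕ} [hp : Fact p.Prime] [hF : CharP F p] (U : Subgroup Y) [Finite Y] (hU : IsPGroup p U)
    (φ : Y →* GL ι F) [Nonempty ι] : ∃ v : ι → F, v ≠ 0 ∧ ∀ u ∈ U, (φ u : Matrix ι ι F) *ᵥ v = v := by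
  classical
  let act : MulAction U (ι → F) :=
    { smul := fun u v => (φ (u : Y) : Matrix ι ι F) *ᵥ v
      one_smul := fun v => by
        change (φ ((1 : U) : Y) : Matrix ι ι F) *ᵥ v = v
        rw [Subgroup.coe_one, map_one, Units.val_one, Matrix.one_mulVec]
      mul_smul := fun a b v => by
        change (φ ((a * b : U) : Y) : Matrix ι ι F) *ᵥ v = (φ (a : Y) : Matrix ι ι F) *ᵥ ((φ (b : Y) : Matrix ι ι F) *ᵥ v)
        rw [Subgroup.coe_mul, map_mul, Units.val_mul, Matrix.mulVec_mulVec] }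
  have := Fintype.ofFinite F
  have hdvd : p ∣ Nat.card (ι → F) := by
    obtain ⟨a, -, ha⟩ := FiniteField.card F p
    rw [Nat.card_eq_fintype_card, Fintype.card_fun, ha, ← pow_mul]
    exact dvd_pow_self p (Nat.mul_ne_zero a.ne_zero Fintype.card_ne_zero)
  have h0 : (0 : ι → F) ∈ MulAction.fixedPoints U (ι → F) := fun u => Matrix.mulVec_zero _
  obtain ⟨v, hv, hv0⟩ := hU.exists_fixed_point_of_prime_dvd_card_of_fixed_point (ι → F) hdvd h0
  exact ⟨v, hv0.symm, fun u hu => hv ⟨u, hu⟩⟩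

end PFix

section Main

variable {I W Y : Type*} [Fintype I] [DecidableEq I] [Group W] [Group Y] {M : CoxeterMatrix I}
  {cs : CoxeterSystem M W} {A : I → I → ℤ} {h : IsCartan M A} {p : ℕ} {T : Subgroup Y} {n : I → Y}
  {X : (I → ℤ) → Subgroup Y} {F : Type*} [Field F] {ι : Type} [Fintype ι] [DecidableEq ι]
  {P : Subgroup (GL ι F)}

variable (R : RGD cs h p T n X) [Finite Y] [Finite W] [Fact p.Prime] [CharP F p] [Nonempty ι]
  (hG : GG cs h T X = ⊤) (hT : ∀ s ∈ T, ∀ t ∈ T, s * t = t * s) {φ : Y →* GL ι F} (hφ : φ.range = P)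
  (hP : ActsAbsolutelyIrreducibly (matrixSet P))
include R hG hT hφ hP

/-- **The highest weight vector over a finite field.** -/
theorem exists_hw [Finite F] {B : Matrix ι ι F} (hdet : IsUnit B.det)
    (hfix : ∀ g ∈ P, (g : Matrix ι ι F)ᵀ * B * (g : Matrix ι ι F) = B) :
    ∃ v : ι → F, v ≠ 0 ∧ (∀ u ∈ RGD.Sup X (RGD.Pos cs h), (φ u : Matrix ι ι F) *ᵥ v = v) ∧
      (∀ w : ι → F, (∀ u ∈ RGD.Sup X (RGD.Pos cs h), (φ u : Matrix ι ι F) *ᵥ w = w) → ∃ a : F, w = a • v) ∧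
      (∀ t ∈ T, ∃ a : F, a ≠ 0 ∧ (φ t : Matrix ι ι F) *ᵥ v = a • v) ∧
      ∀ g0 : Y, (∀ u ∈ RGD.Sup X (RGD.Pos cs h), g0 * u * g0⁻¹ ∈ UN cs h X) →
        v ⬝ᵥ (B *ᵥ ((φ g0 : Matrix ι ι F) *ᵥ v)) ≠ 0 := by
  classical
  have hchar : CharP (AlgebraicClosure F) p := charP_of_injective_algebraMap (algebraMap F _).injective p
  have hirr := ac_irr R hG hT hφ hP
  obtain ⟨c, hc, hc0, χ, hχ⟩ := exists_chi R hirr hT
  obtain ⟨ψ, hψ, hψc⟩ := exists_pair R (lin (acRep φ)) hirr hc hc0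
  have hspan := fx_eq_span R (lin (acRep φ)) hirr hc hc0 hχ
  have hinj := (algebraMap F (AlgebraicClosure F)).injective
  obtain ⟨v, hv0, hvU⟩ := exists_fixed (p := p) (RGD.Sup X (RGD.Pos cs h)) R.isPGroup_Upos φ
  -- base change of vectors
  set ex : (ι → F) → (ι → AlgebraicClosure F) := fun w i => algebraMap F (AlgebraicClosure F) (w i) with hex
  have hexinj : ∀ w w' : ι → F, ex w = ex w' → w = w' := by
    intro w w' e
    funext i
    exact hinj (congrFun e i)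
  have hmul : ∀ (M : Matrix ι ι F) (w : ι → F),
      ex (M *ᵥ w) = (M.map (algebraMap F (AlgebraicClosure F))) *ᵥ ex w := by
    intro M w
    funext i
    exact RingHom.map_mulVec (algebraMap F (AlgebraicClosure F)) M w i
  have hρ : ∀ (y : Y) (w : ι → F), ex ((φ y : Matrix ι ι F) *ᵥ w) = lin (acRep φ) y (ex w) := by
    intro y w
    rw [hmul, lin_apply, acRep_apply]
  have hmem : ∀ w : ι → F, (∀ u ∈ RGD.Sup X (RGD.Pos cs h), (φ u : Matrix ι ι F) *ᵥ w = w) →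
      ∃ a : AlgebraicClosure F, ex w = a • c := by
    intro w hw
    have h1 : ex w ∈ fx (lin (acRep φ)) (RGD.Sup X (RGD.Pos cs h)) := by
      intro u hu
      rw [← hρ, hw u hu]
    rw [hspan] at h1
    obtain ⟨a, ha⟩ := Submodule.mem_span_singleton.1 h1
    exact ⟨a, ha.symm⟩
  obtain ⟨a0, ha0⟩ := hmem v hvU
  have ha00 : a0 ≠ 0 := by
    rintro rfl
    apply hv0
    apply hexinj
    rw [ha0, zero_smul]
    funext i
    exact (map_zero (algebraMap F (AlgebraicClosure F))).symm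
  have hprop : ∀ w : ι → F, (∀ u ∈ RGD.Sup X (RGD.Pos cs h), (φ u : Matrix ι ι F) *ᵥ w = w) →
      ∃ a : F, w = a • v := by
    intro w hw
    obtain ⟨a, ha⟩ := hmem w hw
    obtain ⟨i, hi⟩ := Function.ne_iff.1 hv0
    refine ⟨w i / v i, hexinj _ _ ?_⟩
    have hi' : v i ≠ 0 := hi
    have h1 : ex w = (a / a0) • ex v := by rw [ha, ha0, smul_smul, div_mul_cancel₀ _ ha00]
    have h2 := congrFun h1 i
    rw [Pi.smul_apply, smul_eq_mul] at h2
    have h3 : algebraMap F (AlgebraicClosure F) (w i / v i) = a / a0 := by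
      rw [map_div₀, div_eq_iff (by
        change algebraMap F (AlgebraicClosure F) (v i) ≠ 0
        rw [Ne, map_eq_zero_iff _ hinj]; exact hi')]
      exact h2
    rw [h1, ← h3]
    funext j
    simp only [hex, Pi.smul_apply, smul_eq_mul, map_mul]
  refine ⟨v, hv0, hvU, hprop, ?_, ?_⟩
  · intro t ht
    obtain ⟨a, ha⟩ := hprop ((φ t : Matrix ι ι F) *ᵥ v) (fun u hu => by
      have h1 := R.T_le_normalizer_U (inv_mem ht)
      have h2 : t⁻¹ * u * t⁻¹⁻¹ ∈ RGD.Sup X (RGD.Pos cs h) :=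
        (Subgroup.mem_normalizer_iff.1 h1 u).1 hu
      have h3 := hvU _ h2
      have e : u * t = t * (t⁻¹ * u * t⁻¹⁻¹) := by group
      rw [Matrix.mulVec_mulVec, ← Units.val_mul, ← map_mul, e, map_mul, Units.val_mul, ← Matrix.mulVec_mulVec, h3])
    refine ⟨a, ?_, ha⟩
    rintro rfl
    rw [zero_smul] at ha
    apply hv0
    have h1 : ((φ t)⁻¹ : GL ι F).1 *ᵥ ((φ t : Matrix ι ι F) *ᵥ v) = v := by
      rw [Matrix.mulVec_mulVec, ← Units.val_mul, inv_mul_cancel, Units.val_one, Matrix.one_mulVec]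
    rw [← h1, ha, Matrix.mulVec_zero]
  · intro g0 hU hzero
    set B' : Matrix ι ι (AlgebraicClosure F) := B.map (algebraMap F (AlgebraicClosure F)) with hB'
    have hdet' : IsUnit B'.det := by
      have h1 : B'.det = algebraMap F (AlgebraicClosure F) B.det := (RingHom.map_det _ B).symm
      rw [h1]
      exact hdet.map _
    have hfix' : ∀ y : Y, (acRep φ y)ᵀ * B' * acRep φ y = B' := by
      intro y
      have h1 := hfix (φ y) (by rw [← hφ]; exact ⟨y, rfl⟩)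
      have h3 := congrArg (fun N : Matrix ι ι F => N.map (algebraMap F (AlgebraicClosure F))) h1
      rw [Matrix.map_mul, Matrix.map_mul, Matrix.transpose_map] at h3
      exact h3
    have hform : ∀ (y : Y) (u v : ι → AlgebraicClosure F),
        (lin (acRep φ) y u) ⬝ᵥ (B' *ᵥ (lin (acRep φ) y v)) = u ⬝ᵥ (B' *ᵥ v) := by
      intro y u v
      rw [lin_apply, lin_apply, dot_mulVec_left, Matrix.mulVec_mulVec, hfix']
    -- the functional as a vector
    obtain ⟨w, hw⟩ : ∃ w, ∀ x, ψ x = x ⬝ᵥ (B' *ᵥ w) := by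
      refine ⟨B'⁻¹ *ᵥ (fun i => ψ (Pi.single i 1)), fun x => ?_⟩
      rw [Matrix.mulVec_mulVec, Matrix.mul_nonsing_inv _ hdet', Matrix.one_mulVec]
      conv_lhs => rw [← Finset.univ_sum_single x]
      rw [map_sum]
      refine Finset.sum_congr rfl fun i _ => ?_
      have h1 : (Pi.single i (x i) : ι → AlgebraicClosure F) = x i • Pi.single i 1 := by
        rw [← Pi.single_smul, smul_eq_mul, mul_one]
      rw [h1, map_smul, smul_eq_mul]
    have hwfix : ∀ u ∈ UN cs h X, lin (acRep φ) u w = w := by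
      intro u hu
      have h1 : ∀ x, x ⬝ᵥ (B' *ᵥ (lin (acRep φ) u w)) = x ⬝ᵥ (B' *ᵥ w) := by
        intro x
        have h3 := hform u (lin (acRep φ) u⁻¹ x) w
        rw [rho_rho_inv] at h3
        rw [h3, ← hw, ← hw]
        exact (mem_fx_dual (lin (acRep φ))).1 hψ _ (inv_mem hu) x
      have h3 : B' *ᵥ (lin (acRep φ) u w) = B' *ᵥ w := by
        funext i
        have h4 := h1 (Pi.single i 1)
        rwa [single_one_dotProduct, single_one_dotProduct] at h4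
      have h4 := congrArg (fun z => B'⁻¹ *ᵥ z) h3
      rwa [Matrix.mulVec_mulVec, Matrix.mulVec_mulVec, Matrix.nonsing_inv_mul _ hdet', Matrix.one_mulVec,
        Matrix.one_mulVec] at h4
    have h5 : lin (acRep φ) g0⁻¹ w ∈ fx (lin (acRep φ)) (RGD.Sup X (RGD.Pos cs h)) := by
      intro u hu
      have h6 := hwfix _ (hU u hu)
      have e : u * g0⁻¹ = g0⁻¹ * (g0 * u * g0⁻¹) := by group
      rw [← rho_mul, e, rho_mul, h6]
    rw [hspan] at h5
    obtain ⟨a, ha⟩ := Submodule.mem_span_singleton.1 h5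
    have hwa : w = a • lin (acRep φ) g0 c := by
      have h6 := congrArg (lin (acRep φ) g0) ha
      rw [rho_rho_inv, map_smul] at h6
      exact h6.symm
    apply hψc
    have hcv : c = a0⁻¹ • ex v := by rw [ha0, smul_smul, inv_mul_cancel₀ ha00, one_smul]
    have hdot : ∀ x y : ι → F, ex x ⬝ᵥ (B' *ᵥ ex y) = algebraMap F (AlgebraicClosure F) (x ⬝ᵥ (B *ᵥ y)) := by
      intro x y
      rw [← hmul, RingHom.map_dotProduct]
      rfl
    rw [hw, hwa, hcv, map_smul, ← hρ, Matrix.mulVec_smul, Matrix.mulVec_smul, smul_dotProduct, dotProduct_smul,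
      dotProduct_smul, hdot, hzero, map_zero, smul_zero, smul_zero, smul_zero]

end Main

section One

variable {F : Type*} [Field F] [Finite F] {ι : Type} [Fintype ι] [DecidableEq ι] {P : Subgroup (GL ι F)}
  {p : ℕ} [hp : Fact p.Prime] [hFp : CharP F p] {Y : Type*} [Group Y] [Finite Y] {U T : Subgroup Y} {n : Y}

omit hp hFp [Finite Y] in
theorem sup_X1 {W : Type*} [Group W] (cs : CoxeterSystem (cA 1) W) {A : Fin 1 → Fin 1 → ℤ} (h : IsCartan (cA 1) A) :
    RGD.Sup (X1 U n) (RGD.Pos cs h) = U := by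
  apply le_antisymm
  · refine iSup_le fun z => ?_
    rcases (isRoot_one cs h).1 z.2.1 with h1 | h1
    · rw [h1, X1_pos]
    · exfalso
      have h2 : (0 : ℤ) ≤ (-sr (0 : Fin 1) : Fin 1 → ℤ) 0 := by rw [← h1]; exact z.2.2 0
      rw [Pi.neg_apply, sr_self] at h2
      omega
  · have h1 : X1 U n (sr 0) ≤ RGD.Sup (X1 U n) (RGD.Pos cs h) :=
      RGD.le_Sup ⟨isRoot_sr cs h 0, fun i => by
        obtain rfl : i = 0 := Subsingleton.elim _ _
        rw [sr_self, Pi.zero_apply]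
        norm_num⟩
    rwa [X1_pos] at h1

omit hp hFp [Finite Y] in
theorem cj_X1 {W : Type*} [Group W] (cs : CoxeterSystem (cA 1) W) {A : Fin 1 → Fin 1 → ℤ} (h : IsCartan (cA 1) A)
    {u : Y} (hu : u ∈ U) : n * u * n⁻¹ ∈ UN cs h (X1 U n) := by
  have h1 : X1 U n (-sr 0) ≤ UN cs h (X1 U n) :=
    X_le_UN ((isRoot_one cs h).2 (Or.inr rfl)) fun i => by
      obtain rfl : i = 0 := Subsingleton.elim _ _
      rw [Pi.neg_apply, sr_self, Pi.zero_apply]
      norm_num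
  rw [X1_neg] at h1
  exact h1 (conj_mem_cj.2 hu)

/-- **Rank one: the highest weight vector.** -/
theorem sp1_hw (D : Sp1 p U T n) (hT : ∀ s ∈ T, ∀ t ∈ T, s * t = t * s) {φ : Y →* GL ι F} (hφ : φ.range = P)
    [Nonempty ι] (hP : ActsAbsolutelyIrreducibly (matrixSet P)) {B : Matrix ι ι F} (hdet : IsUnit B.det)
    (hfix : ∀ g ∈ P, (g : Matrix ι ι F)ᵀ * B * (g : Matrix ι ι F) = B) :
    ∃ v : ι → F, v ≠ 0 ∧ (∀ u ∈ U, (φ u : Matrix ι ι F) *ᵥ v = v) ∧
      (∀ w : ι → F, (∀ u ∈ U, (φ u : Matrix ι ι F) *ᵥ w = w) → ∃ a : F, w = a • v) ∧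
      (∀ t ∈ T, ∃ a : F, a ≠ 0 ∧ (φ t : Matrix ι ι F) *ᵥ v = a • v) ∧
      ∀ u ∈ U, ∀ t ∈ T, ∀ u' ∈ U, v ⬝ᵥ (B *ᵥ ((φ (u * t * n * u') : Matrix ι ι F) *ᵥ v)) ≠ 0 := by
  haveI : Finite (cA 1).Group := finite_W (cA 1).toCoxeterSystem (isCartan 1)
  have R := D.rgd (cA 1).toCoxeterSystem (isCartan 1)
  have hG := D.gg (cA 1).toCoxeterSystem (isCartan 1)
  obtain ⟨v, h0, h1, h2, h3, h4⟩ := exists_hw R hG hT hφ hP hdet hfix
  rw [sup_X1] at h1 h2 h4
  refine ⟨v, h0, h1, h2, h3, ?_⟩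
  have hform : ∀ (y : Y) (a b : ι → F), ((φ y : Matrix ι ι F) *ᵥ a) ⬝ᵥ (B *ᵥ ((φ y : Matrix ι ι F) *ᵥ b)) =
      a ⬝ᵥ (B *ᵥ b) := by
    intro y a b
    rw [dot_mulVec_left, Matrix.mulVec_mulVec, hfix _ (by rw [← hφ]; exact ⟨y, rfl⟩)]
  intro u hu t ht u' hu' hzero
  have h5 := h4 n (fun x hx => cj_X1 _ _ hx)
  apply h5
  obtain ⟨a, ha, hta⟩ := h3 t ht
  have h6 : (φ (u * t * n * u') : Matrix ι ι F) *ᵥ v = (φ u : Matrix ι ι F) *ᵥ ((φ t : Matrix ι ι F) *ᵥ
      ((φ n : Matrix ι ι F) *ᵥ v)) := by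
    rw [map_mul, map_mul, map_mul, Units.val_mul, Units.val_mul, Units.val_mul, ← Matrix.mulVec_mulVec,
      ← Matrix.mulVec_mulVec, ← Matrix.mulVec_mulVec, h1 u' hu']
  rw [h6] at hzero
  have h7 := hform u v ((φ t : Matrix ι ι F) *ᵥ ((φ n : Matrix ι ι F) *ᵥ v))
  rw [h1 u hu, hzero] at h7
  have h8 := hform t v ((φ n : Matrix ι ι F) *ᵥ v)
  rw [hta, smul_dotProduct, ← h7, smul_zero] at h8
  exact h8.symm

/-- **Rank one: no ovoids.** -/
theorem sp1_no_ovoid (D : Sp1 p U T n) (hT : ∀ s ∈ T, ∀ t ∈ T, s * t = t * s) {φ : Y →* GL ι F} (hφ : φ.range = P)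
    (h6 : Fintype.card ι = 6) (hP : ActsAbsolutelyIrreducibly (matrixSet P)) (hA : FixA P)
    (hU : Nat.card U = Nat.card F ^ 3) : False := by
  classical
  haveI : Nonempty ι := Fintype.card_pos_iff.1 (by omega)
  obtain ⟨B, hskew, halt, hdet, hfix⟩ := exists_alt hA
  obtain ⟨v, h0, h1, h2, h3, h4⟩ := sp1_hw D hT hφ hP hdet hfix
  have hform : ∀ (y : Y) (a b : ι → F), ((φ y : Matrix ι ι F) *ᵥ a) ⬝ᵥ (B *ᵥ ((φ y : Matrix ι ι F) *ᵥ b)) =
      a ⬝ᵥ (B *ᵥ b) := by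
    intro y a b
    rw [dot_mulVec_left, Matrix.mulVec_mulVec, hfix _ (by rw [← hφ]; exact ⟨y, rfl⟩)]
  have hsk : ∀ a b : ι → F, a ⬝ᵥ (B *ᵥ b) = -(b ⬝ᵥ (B *ᵥ a)) := by
    intro a b
    have h10 : b ⬝ᵥ (B *ᵥ a) = a ⬝ᵥ (Bᵀ *ᵥ b) := by
      rw [Matrix.mulVec_transpose, dotProduct_comm a, ← Matrix.dotProduct_mulVec]
    rw [h10, hskew, Matrix.neg_mulVec, dotProduct_neg, neg_neg]
  have := Fintype.ofFinite F
  have := Fintype.ofFinite U
  let x : Option U → (ι → F) := fun o => o.elim v fun u => (φ ((u : Y) * n) : Matrix ι ι F) *ᵥ v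
  have hv : ∀ u : U, v ⬝ᵥ (B *ᵥ ((φ ((u : Y) * n) : Matrix ι ι F) *ᵥ v)) ≠ 0 := by
    intro u
    have h5 := h4 u u.2 1 (one_mem _) 1 (one_mem _)
    rwa [mul_one, mul_one] at h5
  refine no_ovoid (Matrix.toLinearMap₂' F B) (fun a => ?_) ?_ x ?_ ?_
  · rw [Matrix.toLinearMap₂'_apply']
    exact halt a
  · rw [Module.finrank_fintype_fun_eq_card, h6]
  · intro i j hij
    rw [Matrix.toLinearMap₂'_apply']
    rcases i with _ | u <;> rcases j with _ | u'
    · exact absurd rfl hij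
    · exact hv u'
    · change ((φ ((u : Y) * n) : Matrix ι ι F) *ᵥ v) ⬝ᵥ (B *ᵥ v) ≠ 0
      rw [hsk, neg_ne_zero]
      exact hv u
    · have hne : (u : Y)⁻¹ * u' ≠ 1 := by
        intro e
        apply hij
        have h5 : (u : Y) = u' := by
          rw [inv_mul_eq_one] at e
          exact e
        rw [Subtype.ext h5]
      change ((φ ((u : Y) * n) : Matrix ι ι F) *ᵥ v) ⬝ᵥ (B *ᵥ ((φ ((u' : Y) * n) : Matrix ι ι F) *ᵥ v)) ≠ 0
      have e1 : (φ ((u' : Y) * n) : Matrix ι ι F) *ᵥ v =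
          (φ ((u : Y) * n) : Matrix ι ι F) *ᵥ ((φ (n⁻¹ * ((u : Y)⁻¹ * u') * n) : Matrix ι ι F) *ᵥ v) := by
        rw [Matrix.mulVec_mulVec, ← Units.val_mul, ← map_mul]
        congr 3
        group
      rw [e1, hform]
      rcases D.br (n⁻¹ * ((u : Y)⁻¹ * u') * n) with ⟨a, ha, t, ht, e⟩ | ⟨a, ha, t, ht, b, hb, e⟩
      · exfalso
        apply hne
        have hw : (u : Y)⁻¹ * u' ∈ U := mul_mem (inv_mem u.2) u'.2
        have h5 := D.tu _ (inv_mem D.nn) _ hw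
        have h7 := D.tr _ h5 a ha t ht (by rw [← e]; group)
        have h8 : (u : Y)⁻¹ * u' = (n * n) * ((n * n)⁻¹ * ((u : Y)⁻¹ * u') * (n * n)⁻¹⁻¹) * (n * n)⁻¹ := by group
        rw [h8, h7]
        group
      · rw [e]
        exact h4 a ha t ht b hb
  · rw [Fintype.card_option, ← Nat.card_eq_fintype_card (α := U), hU, Nat.card_eq_fintype_card]

end One

end Cfsg.Agent.H151.Six
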