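import Cfsg.Agent.H905.MdI
import Cfsg.Agent.H905.MdL
import Cfsg.Agent.H905.MdN
import Cfsg.Agent.H905.MdO
import Cfsg.Agent.H914.SixBase
import Cfsg.Agent.H955.Sp
import Cfsg.Agent.H326.Shape
import Cfsg.Agent.H622.CT.Classical
import Cfsg.Agent.H438.SzMax
import Cfsg.Agent.S1069
import Cfsg.Agent.H24.CopNum

/-!
# Residual subgroups of `Sp_6(F)` in the defining characteristic: fields and orders (helper151)

`S : Hyp 3 H P`, `char F = p`, `q = |F|`.

* `soc_dvd` : `|P/scalars|` divides `q^9 (q^2 - 1)(q^4 - 1)(q^6 - 1)`; `dvd_cases` : primitive prime divisors;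
* `psl_row`, `psp_row`, `psu_row`, `sz_row`, `ree_row` : the field and the rank;
* `not_psp6` : `P/scalars` is not `PSp_6(F)` (nor of its order);
* **`dc_six`** : the list for groups of Lie type in characteristic `p`.
-/

set_option autoImplicit false
set_option linter.unusedSectionVars false

namespace Cfsg.Agent.H151.Six

open Cfsg Cfsg.Geo Cfsg.Agent.H915.LD Cfsg.Agent.H914.S6 Cfsg.Agent.H905.Md
open scoped MatrixGroups commutatorElement

universe u

/-! ### arithmetic -/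

/-- a primitive prime divisor of `q^n - 1` -/
theorem exists_ppd' {q n : ℕ} (hq : 2 ≤ q) (hn : 3 ≤ n) (h6 : ¬ (q = 2 ∧ n = 6)) :
    ∃ r : ℕ, r.Prime ∧ (∀ m, r ∣ q ^ m - 1 ↔ n ∣ m) ∧ 3 < r := by
  obtain ⟨r, h1, h2, h3⟩ := H326.exists_ppd hq hn h6
  exact ⟨r, h1, h2, by omega⟩

theorem not_dvd_of_ppd {q n r : ℕ} (hq : 2 ≤ q) (hr : r.Prime) (h : ∀ m, r ∣ q ^ m - 1 ↔ n ∣ m) (hn : n ≠ 0) :
    ¬ r ∣ q := by
  intro h1
  have h2 : r ∣ q ^ n - 1 := (h n).2 dvd_rfl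
  have h3 : r ∣ q ^ n := dvd_pow h1 hn
  have h4 : 1 ≤ q ^ n := Nat.one_le_pow _ _ (by omega)
  have h5 := Nat.dvd_sub h3 h2
  rw [Nat.sub_sub_self h4] at h5
  exact hr.one_lt.ne' (Nat.dvd_one.1 h5)

theorem dvd_pow_add_one_of_ppd {q n r : ℕ} (hr : r.Prime) (h : ∀ m, r ∣ q ^ m - 1 ↔ n ∣ m)
    {k : ℕ} (hk : n = 2 * k) (hk0 : k ≠ 0) : r ∣ q ^ k + 1 := by
  have h1 : r ∣ q ^ n - 1 := (h n).2 dvd_rfl
  have h2 : q ^ n - 1 = (q ^ k + 1) * (q ^ k - 1) := by
    rw [hk, mul_comm 2 k, pow_mul]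
    exact Nat.sq_sub_sq (q ^ k) 1
  rw [h2] at h1
  rcases hr.dvd_mul.1 h1 with h3 | h3
  · exact h3
  · rw [h] at h3
    have := Nat.le_of_dvd (by omega) h3
    omega

section

variable {F : Type u} [Field F] [Fintype F] {H P : Subgroup (GL (Fin 3 ⊕ Fin 3) F)}

theorem card_sp6 : Nat.card (spGL 3 F) = Fintype.card F ^ 9 *
    ((Fintype.card F ^ 2 - 1) * (Fintype.card F ^ 4 - 1) * (Fintype.card F ^ 6 - 1)) := by
  have h1 := H955.card_spGL (m := 3) (F := F)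
  rw [h1, Nat.card_eq_fintype_card]
  simp [Finset.prod_range_succ]

theorem soc_dvd (S : Hyp 3 H P) : Nat.card (Soc P) ∣ Fintype.card F ^ 9 *
    ((Fintype.card F ^ 2 - 1) * (Fintype.card F ^ 4 - 1) * (Fintype.card F ^ 6 - 1)) := by
  rw [← card_sp6]
  exact (Subgroup.card_quotient_dvd_card _).trans (Subgroup.card_dvd_of_le S.P_le)

theorem dvd_cases (S : Hyp 3 H P) {n r : ℕ} (hn : n ≠ 0) (hr : r.Prime)
    (h : ∀ m, r ∣ Fintype.card F ^ m - 1 ↔ n ∣ m) (hd : r ∣ Nat.card (Soc P)) : n ∣ 2 ∨ n ∣ 4 ∨ n ∣ 6 := by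
  have hq : 2 ≤ Fintype.card F := Fintype.one_lt_card
  have h1 := hd.trans (soc_dvd S)
  rcases hr.dvd_mul.1 h1 with h2 | h2
  · exact absurd (hr.dvd_of_dvd_pow h2) (not_dvd_of_ppd hq hr h hn)
  · rcases hr.dvd_mul.1 h2 with h3 | h3
    · rcases hr.dvd_mul.1 h3 with h4 | h4
      · exact Or.inl ((h 2).1 h4)
      · exact Or.inr (Or.inl ((h 4).1 h4))
    · exact Or.inr (Or.inr ((h 6).1 h3))

theorem le_six (S : Hyp 3 H P) {n r : ℕ} (hn : n ≠ 0) (hr : r.Prime)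
    (h : ∀ m, r ∣ Fintype.card F ^ m - 1 ↔ n ∣ m) (hd : r ∣ Nat.card (Soc P)) : n ≤ 6 ∧ n ≠ 5 := by
  rcases dvd_cases S hn hr h hd with h1 | h1 | h1
  · have := Nat.le_of_dvd (by omega) h1
    omega
  · have := Nat.le_of_dvd (by omega) h1
    omega
  · have := Nat.le_of_dvd (by omega) h1
    refine ⟨this, ?_⟩
    rintro rfl
    revert h1
    decide

variable (p : ℕ) [hp : Fact p.Prime] [hFp : CharP F p]

/-- the field of the traces -/
theorem exists_pow_of_fr (S : Hyp 3 H P) {Q : ℕ} (hQ : ∃ a, a ≠ 0 ∧ Q = p ^ a) (h : ∀ g ∈ P, tr g ^ Q = tr g) :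
    ∃ j, 1 ≤ j ∧ Fintype.card F ^ j = Q := by
  obtain ⟨a, ha, rfl⟩ := hQ
  rw [← Nat.card_eq_fintype_card]
  exact card_pow_eq p ha (pow_eq_of_no_subfield S.toCore.absIrred S.toCore.no_subfield p a h)

end

section rows

variable {F : Type u} [Field F] [Fintype F] {H P : Subgroup (GL (Fin 3 ⊕ Fin 3) F)}
  (p : ℕ) [hp : Fact p.Prime] [hFp : CharP F p] {K : Type} [Field K] [Fintype K] [hKp : CharP K p]
include hp hFp hKp

omit hFp in
omit [Fintype F] in
theorem card_K_pow : ∃ a, a ≠ 0 ∧ Fintype.card K = p ^ a := by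
  obtain ⟨a, -, ha⟩ := FiniteField.card K p
  exact ⟨a, a.ne_zero, ha⟩

/-- **`PSL`** -/
theorem psl_row (S : Hyp 3 H P) {l : ℕ} (hl : 1 ≤ l) (hK : l = 1 → 4 ≤ Nat.card K)
    (e : Soc P ≃* Matrix.ProjectiveSpecialLinearGroup (Fin (l + 1)) K) :
    (l = 1 ∧ (Fintype.card K = Fintype.card F ∨ Fintype.card K = Fintype.card F ^ 2 ∨
        Fintype.card K = Fintype.card F ^ 3)) ∨
      (l = 2 ∧ (Fintype.card K = Fintype.card F ∨ Fintype.card K = Fintype.card F ^ 2)) ∨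
      (l = 3 ∧ Fintype.card K = Fintype.card F) := by
  have hC := S.toCore
  have hq : 2 ≤ Fintype.card F := Fintype.one_lt_card
  obtain ⟨j, hj, hc⟩ := psl_card p hC.absIrred hC.perfect hl hK e hC.no_subfield
  have h6 := psl_rank p hC.absIrred hC.perfect hl hK e
  rw [Fintype.card_sum, Fintype.card_fin] at h6
  rw [Nat.card_eq_fintype_card, Nat.card_eq_fintype_card] at hc
  -- primitive prime divisors
  have key : ∀ i, 2 ≤ i → i ≤ l + 1 → 3 ≤ i * j → ¬ (Fintype.card F = 2 ∧ i * j = 6) → i * j ≤ 6 ∧ i * j ≠ 5 := by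
    intro i hi hil h3 h26
    obtain ⟨r, hr, hrr, -⟩ := exists_ppd' hq h3 h26
    refine le_six S (by omega) hr hrr ?_
    rw [Nat.card_congr e.toEquiv]
    refine H622.CT.dvd_card_psl (by omega) hr ?_ hil (by omega) ?_
    · rw [← hc, hrr]
      intro h
      have := Nat.le_of_dvd (by omega) h
      nlinarith
    · rw [← hc, ← pow_mul, hrr, mul_comm]
  have hj4 : j = 1 ∨ j = 2 ∨ j = 3 ∨ 4 ≤ j := by omega
  have hl5 : l = 1 ∨ l = 2 ∨ l = 3 ∨ l = 4 ∨ l = 5 := by omega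
  rcases hl5 with rfl | rfl | rfl | rfl | rfl
  · refine Or.inl ⟨rfl, ?_⟩
    rcases hj4 with rfl | rfl | rfl | h
    · exact Or.inl (by rw [← hc, pow_one])
    · exact Or.inr (Or.inl hc.symm)
    · exact Or.inr (Or.inr hc.symm)
    · have := key 2 le_rfl (by omega) (by omega) (by omega)
      omega
  · refine Or.inr (Or.inl ⟨rfl, ?_⟩)
    rcases hj4 with rfl | rfl | rfl | h
    · exact Or.inl (by rw [← hc, pow_one])
    · exact Or.inr hc.symm
    · have := key 3 (by omega) (by omega) (by omega) (by omega)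
      omega
    · have := key 3 (by omega) (by omega) (by omega) (by omega)
      omega
  · refine Or.inr (Or.inr ⟨rfl, ?_⟩)
    rcases hj4 with rfl | rfl | rfl | h
    · rw [← hc, pow_one]
    · have := key 4 (by omega) (by omega) (by omega) (by omega)
      omega
    · have := key 4 (by omega) (by omega) (by omega) (by omega)
      omega
    · have := key 4 (by omega) (by omega) (by omega) (by omega)
      omega
  · exfalso
    have := key 5 (by omega) (by omega) (by omega) (by omega)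
    omega
  · exfalso
    have := key 5 (by omega) (by omega) (by omega) (by omega)
    omega

/-- **`PSp`** -/
theorem psp_row (S : Hyp 3 H P) {m : ℕ} (hm : 2 ≤ m) (hm3 : m ≤ 3) (hK : m = 2 → 3 ≤ Fintype.card K)
    (e : Soc P ≃* PSp m K) : Fintype.card K = Fintype.card F := by
  have hC := S.toCore
  have hq : 2 ≤ Fintype.card F := Fintype.one_lt_card
  have hne := hC.nonempty
  obtain ⟨j, hj, hc⟩ := exists_pow_of_fr p S (card_K_pow (K := K) p) fun g hg => by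
    have h1 := (psp_both p hC.absIrred hC.perfect (m := m) (K := K) (by omega) (by rw [Nat.card_eq_fintype_card]; omega) e hg).1
    rw [Nat.card_eq_fintype_card] at h1
    exact h1
  by_contra hne'
  have hj2 : 2 ≤ j := by
    by_contra h
    obtain rfl : j = 1 := by omega
    exact hne' (by rw [← hc, pow_one])
  obtain ⟨r, hr, hrr, hr3⟩ := exists_ppd' (n := 2 * m * j) hq (by nlinarith) (by
    rintro ⟨-, h⟩
    nlinarith)
  have h1 := le_six S (by positivity) hr hrr (by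
    rw [Nat.card_congr e.toEquiv]
    refine H622.CT.dvd_card_psp (i := m - 1) (by omega) hr (by omega) (by omega) ?_
    rw [← hc, ← pow_mul, hrr, show m - 1 + 1 = m by omega]
    exact ⟨1, by ring⟩)
  nlinarith [h1.1]

/-- **`PSU`** -/
theorem psu_row (S : Hyp 3 H P) {N q : ℕ} (hN : 3 ≤ N) (hK : Fintype.card K = q ^ 2) (h32 : ¬ (N = 3 ∧ q = 2))
    (e : Soc P ≃* PSU N K q) : q = Fintype.card F ∧ (N = 3 ∨ N = 4) := by
  have hC := S.toCore
  have hq : 2 ≤ Fintype.card F := Fintype.one_lt_card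
  have hne := hC.nonempty
  have hqp : ∃ a, a ≠ 0 ∧ q = p ^ a := by
    obtain ⟨b, hb, h1⟩ := card_K_pow (K := K) p
    rw [hK] at h1
    have h2 : q ∣ p ^ b := by rw [← h1]; exact dvd_pow_self q two_ne_zero
    obtain ⟨a, -, rfl⟩ := (Nat.dvd_prime_pow hp.out).1 h2
    refine ⟨a, ?_, rfl⟩
    rintro rfl
    have h3 := Fintype.one_lt_card (α := K)
    rw [hK] at h3
    norm_num at h3
  obtain ⟨j, hj, hc⟩ := exists_pow_of_fr p S hqp fun g hg => by
    have h1 := (psu_both p hC.absIrred hC.perfect (K := K) hN hK h32 e hg).2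
    have h2 := S.sd g hg
    unfold tr at h2 ⊢
    rw [← h1, h2]
  have hq2 : 2 ≤ q := by
    rw [← hc]
    calc 2 ≤ Fintype.card F := hq
      _ = Fintype.card F ^ 1 := (pow_one _).symm
      _ ≤ _ := Nat.pow_le_pow_right (by omega) hj
  have key : ∀ i, Even i → i ≠ 0 → i < N → 3 ≤ 2 * ((i + 1) * j) →
      ¬ (Fintype.card F = 2 ∧ 2 * ((i + 1) * j) = 6) → 2 * ((i + 1) * j) ≤ 6 := by
    intro i hi hi0 hiN h3 h26
    obtain ⟨r, hr, hrr, hr3⟩ := exists_ppd' hq h3 h26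
    refine (le_six S (by positivity) hr hrr ?_).1
    rw [Nat.card_congr e.toEquiv]
    refine H622.CT.dvd_card_psu hK (by omega) hr ?_ hiN ?_
    · intro h
      have h1 : r ∣ q ^ 2 - 1 := by
        have h2 : q ^ 2 - 1 = (q + 1) * (q - 1) := Nat.sq_sub_sq q 1
        rw [h2]
        exact Dvd.dvd.mul_right h _
      rw [← hc, ← pow_mul, hrr] at h1
      have h2 := Nat.le_of_dvd (by positivity) h1
      have h4 := Nat.mul_le_mul_right j (show 2 ≤ i + 1 by omega)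
      omega
    · rw [if_pos hi, ← hc, ← pow_mul, mul_comm j]
      exact dvd_pow_add_one_of_ppd hr hrr rfl (by positivity)
  have hj1 : j = 1 := by
    by_contra h
    have := key 2 even_two two_ne_zero (by omega) (by omega) (by omega)
    omega
  subst hj1
  refine ⟨by rw [← hc, pow_one], ?_⟩
  by_contra h
  have := key 4 (by decide) (by omega) (by omega) (by omega) (by omega)
  omega

end rows

section rows2

variable {F : Type u} [Field F] [Fintype F] {H P : Subgroup (GL (Fin 3 ⊕ Fin 3) F)}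

/-- **`Sz`** -/
theorem sz_row [CharP F 2] (S : Hyp 3 H P) {K : Type} [Field K] [Fintype K] {m : ℕ} (hm : 1 ≤ m)
    (hK : Fintype.card K = 2 ^ (2 * m + 1)) (e : Soc P ≃* Cfsg.Lie.Sz K (2 ^ (m + 1))) :
    Fintype.card K = Fintype.card F := by
  have hC := S.toCore
  have hq : 2 ≤ Fintype.card F := Fintype.one_lt_card
  obtain ⟨j, hj, hc⟩ := exists_pow_of_fr 2 S ⟨2 * m + 1, by omega, hK⟩ fun g hg =>
    (sz_both hC.absIrred hC.perfect hm hK e hg).1
  by_contra hne'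
  have hj2 : 2 ≤ j := by
    by_contra h
    obtain rfl : j = 1 := by omega
    exact hne' (by rw [← hc, pow_one])
  obtain ⟨r, hr, hrr, hr3⟩ := exists_ppd' (n := 2 * (2 * j)) hq (by omega) (by omega)
  have h1 := le_six S (by omega) hr hrr (by
    rw [Nat.card_congr e.toEquiv, H438.SzMax.card_sz hK, ← hK, ← hc, ← pow_mul, mul_comm j]
    exact Dvd.dvd.mul_left (dvd_pow_add_one_of_ppd hr hrr rfl (by omega)) _)
  omega

/-- **`Ree`** -/
theorem ree_row [CharP F 3] (S : Hyp 3 H P) {K : Type} [Field K] [Fintype K] {m : ℕ} (hm : 1 ≤ m)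
    (hK : Fintype.card K = 3 ^ (2 * m + 1)) (e : Soc P ≃* Cfsg.Lie.twistedG2 K (3 ^ m)) :
    Fintype.card K = Fintype.card F := by
  have hC := S.toCore
  have hq : 2 ≤ Fintype.card F := Fintype.one_lt_card
  obtain ⟨j, hj, hc⟩ := exists_pow_of_fr 3 S ⟨2 * m + 1, by omega, hK⟩ fun g hg =>
    (ree_both hC.absIrred hC.perfect hm hK e hg).1
  by_contra hne'
  have hj2 : 2 ≤ j := by
    by_contra h
    obtain rfl : j = 1 := by omega
    exact hne' (by rw [← hc, pow_one])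
  obtain ⟨r, hr, hrr, hr3⟩ := exists_ppd' (n := 2 * (3 * j)) hq (by omega) (by omega)
  have h1 := le_six S (by omega) hr hrr (by
    rw [Nat.card_congr e.toEquiv, S1069.result hK, ← hK, ← hc, ← pow_mul _ j 3, mul_comm j]
    exact Dvd.dvd.mul_left (dvd_pow_add_one_of_ppd hr hrr rfl (by omega)) _)
  omega

/-- **the order of `P/scalars` is not `|PSp_6(F)|`** -/
theorem not_big (S : Hyp 3 H P) (h : Nat.card (spGL 3 F) ≤ 2 * Nat.card (Soc P)) : False := by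
  have hlt : H < spGL 3 F := S.max.1
  have hPH : P ≤ H := S.core.le
  have hPL : P ≤ spGL 3 F := S.P_le
  apply hlt.not_ge
  refine le_trans ?_ hPH
  have hcard : Nat.card P * P.relIndex (spGL 3 F) = Nat.card (spGL 3 F) := by
    rw [Subgroup.relIndex, ← Nat.card_congr (Subgroup.subgroupOfEquivOfLe hPL).toEquiv]
    exact Subgroup.card_mul_index _
  have h1 : Nat.card (Soc P) ≤ Nat.card P := Nat.le_of_dvd Nat.card_pos (Subgroup.card_quotient_dvd_card _)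
  have hpos : 0 < Nat.card P := Nat.card_pos
  have h2 : P.relIndex (spGL 3 F) ≤ 2 := by
    by_contra hcon
    push Not at hcon
    have h3 : Nat.card P * 3 ≤ Nat.card P * P.relIndex (spGL 3 F) := Nat.mul_le_mul_left _ hcon
    rw [hcard] at h3
    omega
  have h0 : P.relIndex (spGL 3 F) ≠ 0 := by
    intro h0
    rw [h0, mul_zero] at hcard
    exact absurd hcard.symm Nat.card_pos.ne'
  rcases (show P.relIndex (spGL 3 F) = 1 ∨ P.relIndex (spGL 3 F) = 2 by omega) with h3 | h3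
  · exact Subgroup.relIndex_eq_one.1 h3
  · rw [← H931.spGL_perfect (F := F) (m := 3) (Or.inl le_rfl), Subgroup.commutator_le]
    intro a ha b hb
    have h4 : (P.subgroupOf (spGL 3 F)).index = 2 := h3
    have h5 : (⁅(⟨a, ha⟩ : spGL 3 F), ⟨b, hb⟩⁆ : spGL 3 F) ∈ P.subgroupOf (spGL 3 F) := by
      rw [commutatorElement_def, Subgroup.mul_mem_iff_of_index_two h4, Subgroup.mul_mem_iff_of_index_two h4,
        Subgroup.mul_mem_iff_of_index_two h4, inv_mem_iff, inv_mem_iff]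
      tauto
    exact h5

/-- `PSp_6(F)` -/
theorem not_psp6 (S : Hyp 3 H P) {K : Type} [Field K] [Fintype K] (hK : Fintype.card K = Fintype.card F)
    (e : Soc P ≃* PSp 3 K) : False := by
  refine not_big S ?_
  have h1 := H24.CopNum.card_psp (F := K) rfl (m := 3) (by norm_num)
  rw [H955.card_spGL (m := 3) (F := F), Nat.card_eq_fintype_card, ← hK, ← h1, Nat.card_congr e.toEquiv]
  exact Nat.mul_le_mul_right _ (Nat.le_of_dvd (by norm_num) (Nat.gcd_dvd_left _ _))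

end rows2

/-- the possible socles -/
def LSix (p : ℕ) (q : ℕ) (T : Type*) [Group T] : Prop :=
  (∃ (K : Type) (_ : Field K) (_ : Fintype K) (_ : CharP K p),
    (4 ≤ Fintype.card K ∧ (Fintype.card K = q ∨ Fintype.card K = q ^ 2 ∨ Fintype.card K = q ^ 3) ∧
      Nonempty (T ≃* Matrix.ProjectiveSpecialLinearGroup (Fin 2) K))) ∨
  (∃ (K : Type) (_ : Field K) (_ : Fintype K) (_ : CharP K p),
    (Fintype.card K = q ∨ Fintype.card K = q ^ 2) ∧ Nonempty (T ≃* Matrix.ProjectiveSpecialLinearGroup (Fin 3) K)) ∨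
  (∃ (K : Type) (_ : Field K) (_ : Fintype K) (_ : CharP K p),
    Fintype.card K = q ∧ Nonempty (T ≃* Matrix.ProjectiveSpecialLinearGroup (Fin 4) K)) ∨
  (∃ (K : Type) (_ : Field K) (_ : Fintype K) (_ : CharP K p),
    Fintype.card K = q ∧ 3 ≤ q ∧ Nonempty (T ≃* PSp 2 K)) ∨
  (∃ (K : Type) (_ : Field K) (_ : Fintype K) (_ : CharP K p),
    Fintype.card K = q ^ 2 ∧ q ≠ 2 ∧ Nonempty (T ≃* PSU 3 K q)) ∨
  (∃ (K : Type) (_ : Field K) (_ : Fintype K) (_ : CharP K p),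
    Fintype.card K = q ^ 2 ∧ Nonempty (T ≃* PSU 4 K q)) ∨
  (p = 2 ∧ ∃ (K : Type) (_ : Field K) (_ : Fintype K) (m : ℕ), 1 ≤ m ∧ Fintype.card K = 2 ^ (2 * m + 1) ∧
    Fintype.card K = q ∧ Nonempty (T ≃* Lie.Sz K (2 ^ (m + 1)))) ∨
  (p = 3 ∧ ∃ (K : Type) (_ : Field K) (_ : Fintype K) (m : ℕ), 1 ≤ m ∧ Fintype.card K = 3 ^ (2 * m + 1) ∧
    Fintype.card K = q ∧ Nonempty (T ≃* Lie.twistedG2 K (3 ^ m))) ∨
  (∃ (K : Type) (_ : Field K) (_ : Fintype K) (_ : CharP K p),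
    Odd (Fintype.card K) ∧ Nonempty (T ≃* POmega K (quadFormOdd 3 K))) ∨
  (∃ (K : Type) (_ : Field K) (_ : Fintype K) (_ : CharP K p) (a b : K),
    (∀ z₁ z₂ : K, z₁ ^ 2 + a * z₁ * z₂ + b * z₂ ^ 2 = 0 → z₁ = 0 ∧ z₂ = 0) ∧
    Nonempty (T ≃* POmega K (quadFormMinus 3 K a b))) ∨
  (∃ (K : Type) (_ : Field K) (_ : Fintype K) (_ : CharP K p),
    3 ≤ Fintype.card K ∧ Nonempty (T ≃* Lie.chevG2.group K)) ∨
  (∃ (K : Type) (_ : Field K) (_ : Fintype K) (_ : CharP K p) (q₀ : ℕ), IsPrimePow q₀ ∧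
    Fintype.card K = q₀ ^ 3 ∧ Nonempty (T ≃* Lie.twistedD4 K q₀))

/-- **The residual subgroups of `Sp_6(F)` of Lie type in the characteristic of `F`.** -/
theorem dc_six {F : Type u} [Field F] [Fintype F] {H P : Subgroup (GL (Fin 3 ⊕ Fin 3) F)} (p : ℕ)
    [hp : Fact p.Prime] [hFp : CharP F p] (S : Hyp 3 H P) (h : IsLieTypeChar p (Soc P)) :
    LSix p (Fintype.card F) (Soc P) := by
  have hC := S.toCore
  have hsimple := hC.simple
  have h6 : Fintype.card (Fin 3 ⊕ Fin 3) = 6 := by rw [Fintype.card_sum, Fintype.card_fin]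
  have h1 := small_dc hC.absIrred.1 hC.perfect h (by rw [h6]; norm_num)
  rw [h6] at h1
  unfold LSix
  rcases h1 with h | h | h | h | h | h | h | h | h | h | h
  · obtain ⟨K, i1, i2, i3, l, hl, h4, ⟨e⟩⟩ := h
    rcases psl_row p S hl h4 e with ⟨rfl, h5⟩ | ⟨rfl, h5⟩ | ⟨rfl, h5⟩
    · have h7 := h4 rfl
      rw [Nat.card_eq_fintype_card] at h7
      exact Or.inl ⟨K, i1, i2, i3, h7, h5, ⟨e⟩⟩
    · exact Or.inr (Or.inl ⟨K, i1, i2, i3, h5, ⟨e⟩⟩)
    · exact Or.inr (Or.inr (Or.inl ⟨K, i1, i2, i3, h5, ⟨e⟩⟩))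
  · obtain ⟨K, i1, i2, i3, m, hm, hm6, h3, ⟨e⟩⟩ := h
    have h7 := psp_row p S hm (by omega) h3 e
    obtain rfl | rfl : m = 2 ∨ m = 3 := by omega
    · exact Or.inr (Or.inr (Or.inr (Or.inl ⟨K, i1, i2, i3, h7, by rw [← h7]; exact h3 rfl, ⟨e⟩⟩)))
    · exact (not_psp6 S h7 e).elim
  · obtain ⟨K, i1, i2, i3, N, q, hF, hN, hN6, hq, ⟨e⟩⟩ := h
    obtain ⟨rfl, rfl | rfl⟩ := psu_row p S hN hF hq e
    · exact Or.inr (Or.inr (Or.inr (Or.inr (Or.inl ⟨K, i1, i2, i3, hF, fun h => hq ⟨rfl, h⟩, ⟨e⟩⟩))))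
    · exact Or.inr (Or.inr (Or.inr (Or.inr (Or.inr (Or.inl ⟨K, i1, i2, i3, hF, ⟨e⟩⟩)))))
  · obtain ⟨rfl, K, i1, i2, m, hm, hK, ⟨e⟩⟩ := h
    exact Or.inr (Or.inr (Or.inr (Or.inr (Or.inr (Or.inr (Or.inl
      ⟨rfl, K, i1, i2, m, hm, hK, sz_row S hm hK e, ⟨e⟩⟩))))))
  · obtain ⟨rfl, K, i1, i2, m, hm, hK, ⟨e⟩⟩ := h
    exact Or.inr (Or.inr (Or.inr (Or.inr (Or.inr (Or.inr (Or.inr (Or.inl
      ⟨rfl, K, i1, i2, m, hm, hK, ree_row S hm hK e, ⟨e⟩⟩)))))))
  · obtain ⟨K, i1, i2, i3, m, hm, hm6, hodd, ⟨e⟩⟩ := h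
    obtain rfl : m = 3 := by omega
    exact Or.inr (Or.inr (Or.inr (Or.inr (Or.inr (Or.inr (Or.inr (Or.inr (Or.inl
      ⟨K, i1, i2, i3, hodd, ⟨e⟩⟩))))))))
  · obtain ⟨K, i1, i2, i3, m, hm, hm6, -⟩ := h
    omega
  · obtain ⟨K, i1, i2, i3, m, a, b, hm, hm6, hab, ⟨e⟩⟩ := h
    obtain rfl : m = 4 := by omega
    exact Or.inr (Or.inr (Or.inr (Or.inr (Or.inr (Or.inr (Or.inr (Or.inr (Or.inr (Or.inl
      ⟨K, i1, i2, i3, a, b, hab, ⟨e⟩⟩)))))))))
  · obtain ⟨-, K, i1, i2, i3, h3, ⟨e⟩⟩ := h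
    exact Or.inr (Or.inr (Or.inr (Or.inr (Or.inr (Or.inr (Or.inr (Or.inr (Or.inr (Or.inr (Or.inl
      ⟨K, i1, i2, i3, h3, ⟨e⟩⟩))))))))))
  · obtain ⟨-, K, i1, i2, i3, q₀, hq, h3, ⟨e⟩⟩ := h
    exact Or.inr (Or.inr (Or.inr (Or.inr (Or.inr (Or.inr (Or.inr (Or.inr (Or.inr (Or.inr (Or.inr
      ⟨K, i1, i2, i3, q₀, hq, h3, ⟨e⟩⟩))))))))))
  · omega

end Cfsg.Agent.H151.Six
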