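import Cfsg.Agent.H151.Six.Hw
import Cfsg.Agent.H151.Six.Red

/-!
# Groups of rank one and `|U| = q^3` in `Sp_6(q)` (helper151)

* `sp1_of_rgd` : a root group datum of rank one as a split (B,N)-pair;
* **`ree_not_six`**, **`psl2_cube_not_six`**, **`psu3_not_six`**.
-/

set_option autoImplicit false
set_option linter.unusedSectionVars false
set_option linter.style.haveILetI false

namespace Cfsg.Agent.H151.Six

open Matrix CoxeterSystem Cfsg.Agent.ChevalleyStructure.CoxeterGeom Cfsg.Agent.Tits.Roots Cfsg.Agent.Tits.Core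
  Cfsg.Agent.Tits.Exchange Cfsg.Agent.Nodes.Reps Cfsg.Agent.Nodes.BNOf Cfsg.Agent.Nodes.StabComb
  Cfsg.Agent.Nodes.Bruhat Cfsg.Agent.Nodes.OppDec Cfsg.Agent.Nodes.LeviDec Cfsg.Agent.KFacts.RgdOpp
  Cfsg.Agent.Omega.CR Cfsg.Agent.Omega.FOne.Lift.Sd Cfsg.Agent.H911 Cfsg.Agent.H905.Md Cfsg.Agent.Nodes.RGDLib
  Cfsg.Agent.Nodes.RootsA
open Cfsg.Agent.LieRecognition.BNCox (cA cA_apply)
open Cfsg Cfsg.Geo Cfsg.Agent.H915.LD
open scoped MatrixGroups

section OfRgd

variable {I W Y : Type*} [Fintype I] [DecidableEq I] [Group W] [Group Y] {M : CoxeterMatrix I}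
  {cs : CoxeterSystem M W} {A : I → I → ℤ} {h : IsCartan M A} {p : ℕ} {T : Subgroup Y} {n : I → Y}
  {X : (I → ℤ) → Subgroup Y}

/-- the Weyl group of rank one -/
theorem w_cases (cs : CoxeterSystem M W) (i : I) (hi : ∀ j, j = i) (w : W) : w = 1 ∨ w = cs.simple i := by
  obtain ⟨ω, rfl⟩ := cs.wordProd_surjective w
  induction ω with
  | nil => left; rw [wordProd_nil]
  | cons j ω ih =>
    rw [wordProd_cons, hi j]
    rcases ih with ih | ih
    · right; rw [ih, mul_one]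
    · left; rw [ih, simple_mul_simple_self]

theorem root_cases (cs : CoxeterSystem M W) (h : IsCartan M A) (i : I) (hi : ∀ j, j = i) {x : I → ℤ}
    (hx : IsRoot cs h x) : x = sr i ∨ x = -sr i := by
  obtain ⟨w, j, rfl⟩ := hx
  rw [hi j]
  rcases w_cases cs i hi w with rfl | rfl
  · left; rw [map_one, Module.End.one_apply]
  · right; rw [rep_simple_sr]

theorem sup_pos (cs : CoxeterSystem M W) (h : IsCartan M A) (X : (I → ℤ) → Subgroup Y) (i : I) (hi : ∀ j, j = i) :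
    RGD.Sup X (RGD.Pos cs h) = X (sr i) := by
  apply le_antisymm
  · refine iSup_le fun z => ?_
    rcases root_cases cs h i hi z.2.1 with h1 | h1
    · rw [h1]
    · exfalso
      have h2 : (0 : ℤ) ≤ (-sr i : I → ℤ) i := by rw [← h1]; exact z.2.2 i
      rw [Pi.neg_apply, sr_self] at h2
      omega
  · exact RGD.le_Sup ⟨isRoot_sr cs h i, fun j => by
      rw [hi j, sr_self, Pi.zero_apply]
      norm_num⟩

variable (R : RGD cs h p T n X)
include R

/-- **Rank one root group data as a split (B,N)-pair.** -/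
theorem sp1_of_rgd [Finite W] (hG : GG cs h T X = ⊤) (i : I) (hi : ∀ j, j = i) : Sp1 p (X (sr i)) T (n i) where
  tu := by
    intro t ht u hu
    have h1 := R.T_le_normalizer_U ht
    rw [sup_pos cs h X i hi] at h1
    exact (Subgroup.mem_normalizer_iff.1 h1 u).1 hu
  nt := by
    intro t ht
    exact (Subgroup.mem_normalizer_iff.1 (R.nsys.norm i) t).1 ht
  nn := by
    have h1 := R.nsys.rel i i
    rwa [M.diagonal, pow_one] at h1
  br := by
    intro g
    have hB : ∀ b ∈ RGD.B cs h T X, ∃ t ∈ T, ∃ u ∈ X (sr i), b = t * u := by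
      intro b hb
      have h1 := R.mem_B.1 hb
      rwa [sup_pos cs h X i hi] at h1
    have htu : ∀ t ∈ T, ∀ u ∈ X (sr i), t * u * t⁻¹ ∈ X (sr i) := by
      intro t ht u hu
      have h1 := R.T_le_normalizer_U ht
      rw [sup_pos cs h X i hi] at h1
      exact (Subgroup.mem_normalizer_iff.1 h1 u).1 hu
    have hg : g ∈ GG cs h T X := by rw [hG]; trivial
    obtain ⟨w, b₁, hb₁, k, hk, b₂, hb₂, rfl⟩ := (mem_GG R).1 hg
    obtain ⟨t₁, ht₁, u₁, hu₁, rfl⟩ := hB _ hb₁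
    obtain ⟨t₂, ht₂, u₂, hu₂, rfl⟩ := hB _ hb₂
    rcases w_cases cs i hi w with rfl | rfl
    · left
      have hkT : k ∈ T := by
        have h1 := (rp_one (cs := cs) (hN := R.nsys)).unique hk
        rwa [inv_one, one_mul] at h1
      refine ⟨(t₁ * u₁ * t₁⁻¹) * ((t₁ * k * t₂) * u₂ * (t₁ * k * t₂)⁻¹), mul_mem (htu _ ht₁ _ hu₁)
        (htu _ (mul_mem (mul_mem ht₁ hkT) ht₂) _ hu₂), t₁ * k * t₂, mul_mem (mul_mem ht₁ hkT) ht₂, ?_⟩
      group
    · right
      have hkT : (n i)⁻¹ * k ∈ T := (rp_simple cs R.nsys i).unique hk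
      have h2 : n i * ((n i)⁻¹ * k * t₂) * (n i)⁻¹ ∈ T :=
        (Subgroup.mem_normalizer_iff.1 (R.nsys.norm i) _).1 (mul_mem hkT ht₂)
      refine ⟨t₁ * u₁ * t₁⁻¹, htu _ ht₁ _ hu₁, t₁ * (n i * ((n i)⁻¹ * k * t₂) * (n i)⁻¹), mul_mem ht₁ h2, u₂, hu₂, ?_⟩
      group
  tr := by
    intro u hu v hv t ht e
    refine eq_one_of_conj_mem_B R hu (rp_simple cs R.nsys i) ?_
    rw [e]
    refine mul_mem (RGD.U_le_B ?_) (RGD.T_le_B ht)
    rw [sup_pos cs h X i hi]
    exact hv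
  pg := R.pgrp i
  ne := X_ne_bot R (isRoot_sr cs h i)
  cop := R.tcop

end OfRgd

section Sylow

variable {Y : Type*} [Group Y] {U T : Subgroup Y} {n : Y} {p : ℕ} (D : Sp1 p U T n)
include D

/-- `U` is a Sylow subgroup -/
theorem sp1_eq_of_le [Finite Y] [hp : Fact p.Prime] {Q : Subgroup Y} (hq : IsPGroup p Q) (hUQ : U ≤ Q) : Q = U := by
  by_contra hne
  -- `n` does not normalise `U`
  have hn : ¬ cj n U ≤ U := by
    intro hle
    apply D.ne
    rw [eq_bot_iff]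
    intro u hu
    rw [Subgroup.mem_bot]
    refine D.tr u hu (n * u * n⁻¹) (hle ?_) 1 (one_mem _) (by rw [mul_one])
    rw [mem_cj]
    have e : n⁻¹ * (n * u * n⁻¹) * n = u := by group
    rwa [e]
  have hlt : U.subgroupOf Q < ⊤ := by
    rw [lt_top_iff_ne_top]
    intro e
    rw [Subgroup.subgroupOf_eq_top] at e
    exact hne (le_antisymm e hUQ)
  have hnil : Group.IsNilpotent Q := hq.isNilpotent
  have h1 := Group.normalizerCondition_of_isNilpotent (U.subgroupOf Q) hlt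
  obtain ⟨x, hx, hx'⟩ := SetLike.exists_of_lt h1
  have hxU : (x : Y) ∉ U := fun e => hx' (Subgroup.mem_subgroupOf.2 e)
  have hnorm : ∀ u ∈ U, (x : Y) * u * (x : Y)⁻¹ ∈ U := by
    intro u hu
    rw [Subgroup.mem_normalizer_iff] at hx
    have h2 := (hx ⟨u, hUQ hu⟩).1 (Subgroup.mem_subgroupOf.2 hu)
    exact Subgroup.mem_subgroupOf.1 h2
  rcases D.br x with ⟨u, hu, t, ht, e⟩ | ⟨u, hu, t, ht, v, hv, e⟩
  · have h2 : t ∈ Q := by
      have h3 : t = u⁻¹ * x := by rw [e]; group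
      rw [h3]
      exact mul_mem (inv_mem (hUQ hu)) x.2
    obtain ⟨k, hk⟩ := hq ⟨t, h2⟩
    have hk' : t ^ p ^ k = 1 := congrArg Subtype.val hk
    have h3 : orderOf t ∣ Nat.card T := Subgroup.orderOf_dvd_natCard T ht
    have h4 : orderOf t = 1 := Nat.eq_one_of_dvd_coprimes (D.cop.pow_right k) h3 (orderOf_dvd_of_pow_eq_one hk')
    rw [orderOf_eq_one_iff] at h4
    rw [h4, mul_one] at e
    exact hxU (by rw [e]; exact hu)
  · apply hn
    intro y hy
    rw [mem_cj] at hy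
    have h2 := hnorm (v⁻¹ * (n⁻¹ * y * n) * v) (mul_mem (mul_mem (inv_mem hv) hy) hv)
    have e2 : (x : Y) * (v⁻¹ * (n⁻¹ * y * n) * v) * (x : Y)⁻¹ = u * (t * y * t⁻¹) * u⁻¹ := by rw [e]; group
    rw [e2] at h2
    have h3 := mul_mem (mul_mem (inv_mem hu) h2) hu
    have e3 : u⁻¹ * (u * (t * y * t⁻¹) * u⁻¹) * u = t * y * t⁻¹ := by group
    rw [e3] at h3
    have h4 := D.tu _ (inv_mem ht) _ h3
    have e4 : t⁻¹ * (t * y * t⁻¹) * t⁻¹⁻¹ = y := by group
    rwa [e4] at h4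

/-- the order of `U` -/
theorem sp1_card [Finite Y] [hp : Fact p.Prime] {a m : ℕ} (hY : Nat.card Y = p ^ a * m) (hm : m.Coprime p) :
    Nat.card U = p ^ a := by
  let Us : Sylow p Y := ⟨U, D.pg, fun hQ h => sp1_eq_of_le D hQ h⟩
  have h1 : Nat.card U = p ^ (Nat.card Y).factorization p := Us.card_eq_multiplicity
  rw [h1, hY]
  congr 1
  have hm0 : m ≠ 0 := by
    rintro rfl
    rw [mul_zero] at hY
    exact Nat.card_pos.ne' hY
  rw [Nat.factorization_mul (pow_ne_zero _ hp.out.ne_zero) hm0, Finsupp.add_apply, hp.out.factorization_pow,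
    Finsupp.single_eq_same, Nat.factorization_eq_zero_of_not_dvd, add_zero]
  intro hd
  exact hp.out.one_lt.ne' (Nat.eq_one_of_dvd_coprimes hm hd dvd_rfl)

end Sylow

section Rows

variable {F : Type*} [Field F] [Fintype F] {H P : Subgroup (GL (Fin 3 ⊕ Fin 3) F)}

/-- **Ree groups are not in `Sp_6(q)`.** -/
theorem ree_not_six [CharP F 3] (S : H914.S6.Hyp 3 H P) {K : Type} [Field K] [Fintype K] {m : ℕ} (hm : 1 ≤ m)
    (hK : Fintype.card K = 3 ^ (2 * m + 1)) (hKF : Fintype.card K = Fintype.card F)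
    (Φ : Soc P ≃* Cfsg.Lie.twistedG2 K (3 ^ m)) : False := by
  have : Fact (Nat.Prime 3) := ⟨Nat.prime_three⟩
  have hC := S.toCore
  obtain ⟨U, h, n, D⟩ := Cfsg.Agent.ChevalleyStructure.Ree.Data.exists_data hK
  obtain ⟨φ, hφ, -, -⟩ := exists_cover (p := 3) hC.perfect Φ
    (Cfsg.Agent.ChevalleyStructure.Ree.Perfect.commutator_eq_top hK hm)
    (fun r hr hne => by
      rcases lt_trichotomy r 3 with h | h | h
      · have h2 : r = 2 := by
          have := hr.two_le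
          omega
        subst h2
        exact S2113.noPCov_two hm hK
      · exact absurd h hne
      · have : Fact r.Prime := ⟨hr⟩
        exact H67.NoPCov.of_cyclic_sylow hr fun P => Cfsg.Agent.S1156.result hm hK h P)
    (πG := MonoidHom.id _) Function.surjective_id
    (by rw [(MonoidHom.ker_eq_bot_iff _).2 Function.injective_id]; exact bot_le)
  have hfin : Finite (Cfsg.Lie.twistedG2 K (3 ^ m)) := Cfsg.Agent.LieRecognition.ReeSylowThree.finite D
  refine sp1_no_ovoid (ree_sp1 hK D) (reeT_comm D) hφ (by rw [Fintype.card_sum, Fintype.card_fin]) hC.absIrred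
    (fixA_of_hyp S) ?_
  rw [Cfsg.Agent.LieRecognition.ReeSylowThree.card_uSub, hKF, Nat.card_eq_fintype_card]

variable (p : ℕ) [hp : Fact p.Prime] [hFp : CharP F p] {K : Type} [Field K] [Fintype K] [hKp : CharP K p]
include hp hFp hKp

/-- **`PSL(2, q^3)` is not in `Sp_6(q)`.** -/
theorem psl2_cube_not_six (S : H914.S6.Hyp 3 H P) (h4 : 4 ≤ Fintype.card K)
    (hK : Fintype.card K = Fintype.card F ^ 3) (Φ : Soc P ≃* ProjectiveSpecialLinearGroup (Fin 2) K) : False := by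
  have hC := S.toCore
  obtain ⟨φ, hφ, -, -⟩ := psl_cover (l := 1) p hC.perfect le_rfl (by rw [Nat.card_eq_fintype_card]; exact fun _ => h4) Φ
  haveI : Finite (cA 1).Group := finite_W (cA 1).toCoxeterSystem (isCartan 1)
  have R := Nodes.RGDTypeA.rgd (cA 1).toCoxeterSystem (isCartan 1) (F := K) (p := p)
  have hG : GG (cA 1).toCoxeterSystem (isCartan 1) (Nodes.RGDTypeA.T (Fin (1 + 1)) K) (Nodes.RGDTypeA.X K) = ⊤ :=
    gg_eq_top (Nodes.RGDTypeA.G1_eq_top _ _)
  have D := sp1_of_rgd R hG 0 fun j => Subsingleton.elim _ _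
  refine sp1_no_ovoid D slT_comm hφ (by rw [Fintype.card_sum, Fintype.card_fin]) hC.absIrred (fixA_of_hyp S) ?_
  rw [Nodes.RGDTypeA.X_sr]
  have h1 : Nat.card K = Nat.card (Nodes.RGDTypeA.XX K (Fin.castSucc (0 : Fin 1)) (Fin.succ (0 : Fin 1))) := by
    refine Nat.card_congr (Equiv.ofBijective (fun t => ⟨_, Nodes.RGDTypeA.tv_mem_XX _ _ t⟩) ⟨?_, ?_⟩)
    · intro a b e
      exact Nodes.RGDTypeA.tv_inj (a := Fin.castSucc (0 : Fin 1)) (b := Fin.succ (0 : Fin 1)) (by decide)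
        (congrArg Subtype.val e)
    · rintro ⟨_, t, rfl⟩
      exact ⟨t, rfl⟩
  rw [← h1, Nat.card_eq_fintype_card, hK, Nat.card_eq_fintype_card]

end Rows

section SU

open LieClassical.HermBasic Cfsg.Agent.TitsThree.KSideU Cfsg.Agent.TitsThree.KSideUDesc Cfsg.Agent.Nodes.WittU
  Cfsg.Agent.TitsThree.WBridge Cfsg.Agent.TitsThree.SiegelGen Cfsg.Agent.H61.SUCross

variable {F : Type*} [Field F] [Fintype F] {H P : Subgroup (GL (Fin 3 ⊕ Fin 3) F)}
  (p : ℕ) [hp : Fact p.Prime] [hFp : CharP F p] {K : Type} [Field K] [Fintype K] [hKp : CharP K p]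
include hp hFp hKp

omit hFp in
/-- the split (B,N)-pair of `SU_3(q)` -/
theorem su3_sp1 {q : ℕ} (hK : Fintype.card K = q ^ 2) :
    ∃ (U T : Subgroup (SU 3 K q)) (n : SU 3 K q), Sp1 p U T n ∧ (∀ s ∈ T, ∀ t ∈ T, s * t = t * s) ∧
      Nat.card U = q ^ 3 := by
  obtain ⟨W, d, hd, hW⟩ := exists_wframe_odd (N := 3) (m := 1) hK rfl
  have hk : Kind W := Or.inr ⟨d, hd, hW⟩
  obtain ⟨p0, hp0, -⟩ := exists_adm hK W
  have hA : Nodes.WittAll.AmbT (toFrame W) p (modelSU hK le_rfl W).I := Nodes.WittAll.AmbT.of_amb (amb_U hK W) p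
  haveI : Finite (CoxeterMatrix.B 1).Group := Nodes.TypeC.finite_W (CoxeterMatrix.B 1).toCoxeterSystem
  have R := Nodes.WittAll.rgdC_model (modelSU hK le_rfl W) hA hp0 (CoxeterMatrix.B 1).toCoxeterSystem
  have D := sp1_of_rgd R (gg_top (Nodes.WittModel.G1_eq_top _ one_pos _)) 0 fun j => Subsingleton.elim _ _
  refine ⟨_, _, _, D, modelT_comm hA (kd_su hk), ?_⟩
  obtain ⟨b, hb0, hb⟩ : ∃ b, b ≠ 0 ∧ q = p ^ b := by
    obtain ⟨a, -, ha⟩ := FiniteField.card K p
    have h1 : q ∣ p ^ (a : ℕ) := by rw [← ha, hK, sq]; exact Dvd.intro _ rfl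
    obtain ⟨b, -, hb⟩ := (Nat.dvd_prime_pow hp.out).1 h1
    refine ⟨b, ?_, hb⟩
    rintro rfl
    have h2 := Fintype.one_lt_card (α := K)
    rw [hK, hb] at h2
    norm_num at h2
  have hq1 : 1 < q := by
    rw [hb]
    exact Nat.one_lt_pow hb0 hp.out.one_lt
  have h3 := S0278.result hK 3 (by norm_num)
  have h4 : Nat.card (SU 3 K q) = p ^ (b * 3) * ((q ^ 2 - 1) * (q ^ 3 + 1)) := by
    rw [pow_mul, ← hb]
    apply Nat.eq_of_mul_eq_mul_left (show 0 < q + 1 by omega)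
    rw [h3]
    simp [Finset.prod_range_succ]
    ring
  have h5 : ((q ^ 2 - 1) * (q ^ 3 + 1)).Coprime p := by
    rw [Nat.coprime_comm, hp.out.coprime_iff_not_dvd]
    intro h6
    have hpq : p ∣ q := by rw [hb]; exact dvd_pow_self p hb0
    rcases hp.out.dvd_mul.1 h6 with h7 | h7
    · have h8 : p ∣ q ^ 2 := hpq.trans (dvd_pow_self q two_ne_zero)
      have h9 := Nat.dvd_sub h8 h7
      rw [Nat.sub_sub_self (Nat.one_le_pow _ _ (by omega))] at h9
      exact hp.out.one_lt.ne' (Nat.dvd_one.1 h9)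
    · have h8 : p ∣ q ^ 3 := hpq.trans (dvd_pow_self q (by norm_num))
      have h9 := (Nat.dvd_add_right h8).1 h7
      exact hp.out.one_lt.ne' (Nat.dvd_one.1 h9)
  rw [sp1_card D h4 h5, pow_mul, ← hb]

/-- **`PSU(3, q)` is not in `Sp_6(q)`.** -/
theorem psu3_not_six {q : ℕ} (hqF : Fintype.card F = q) (S : H914.S6.Hyp 3 H P) (hK : Fintype.card K = q ^ 2)
    (hq : q ≠ 2) (Φ : Soc P ≃* PSU 3 K q) : False := by
  have hC := S.toCore
  obtain ⟨φ, hφ, -, -⟩ := psu_cover p hC.perfect le_rfl hK (fun h => hq h.2) Φ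
  obtain ⟨U, T, n, D, hT, hU⟩ := su3_sp1 p hK
  have : Finite (SU 3 K q) := inferInstance
  refine sp1_no_ovoid D hT hφ (by rw [Fintype.card_sum, Fintype.card_fin]) hC.absIrred (fixA_of_hyp S) ?_
  rw [hU, Nat.card_eq_fintype_card, hqF]

end SU

end Cfsg.Agent.H151.Six
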