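import Cfsg.Agent.H151.Six.RankOne

/-!
# `PSU(4, q)`, `q` odd, fixes no symplectic form in the defining characteristic (helper151)

* `swap_mem` : the isometry `e_i ↔ f_i` of the Witt frame of `SU_4(q)`;
* **`psu4_not_fixA`**.
-/

set_option autoImplicit false
set_option linter.unusedSectionVars false
set_option linter.style.haveILetI false

namespace Cfsg.Agent.H151.Six

open Matrix CoxeterSystem Cfsg.Agent.ChevalleyStructure.CoxeterGeom Cfsg.Agent.Tits.Roots Cfsg.Agent.Tits.Core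
  Cfsg.Agent.Tits.Exchange Cfsg.Agent.Nodes.Reps Cfsg.Agent.Nodes.BNOf Cfsg.Agent.Nodes.StabComb
  Cfsg.Agent.Nodes.Bruhat Cfsg.Agent.Nodes.OppDec Cfsg.Agent.Nodes.LeviDec Cfsg.Agent.KFacts.RgdOpp
  Cfsg.Agent.Omega.CR Cfsg.Agent.Omega.FOne.Lift.Sd Cfsg.Agent.H911 Cfsg.Agent.H905.Md Cfsg.Agent.Nodes.RGDLib
open Cfsg Cfsg.Geo Cfsg.Agent.H915.LD
open LieClassical.HermBasic Cfsg.Agent.TitsThree.KSideU Cfsg.Agent.TitsThree.KSideUDesc Cfsg.Agent.Nodes.WittU
  Cfsg.Agent.TitsThree.WBridge Cfsg.Agent.TitsThree.SiegelGen Cfsg.Agent.H61.SUCross Cfsg.Agent.TitsThree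
open scoped MatrixGroups

section Refl

variable {K : Type} [Field K] [Fintype K] {q N : ℕ} (hK : Fintype.card K = q ^ 2)

/-- `v ↦ v + h(v, z) z` -/
def reflM (q : ℕ) (z : Fin N → K) : Matrix (Fin N) (Fin N) K := 1 + Matrix.vecMulVec z (fun i => z i ^ q)

theorem reflM_mulVec (z v : Fin N → K) : reflM q z *ᵥ v = v + hermForm N K q v z • z := by
  rw [reflM, Matrix.add_mulVec, Matrix.one_mulVec]
  congr 1
  funext i
  rw [Matrix.vecMulVec_mulVec, Pi.smul_apply, MulOpposite.smul_eq_mul_unop, MulOpposite.unop_op, Pi.smul_apply,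
    smul_eq_mul, mul_comm (z i), herm_def, dotProduct]
  congr 1
  exact Finset.sum_congr rfl fun j _ => mul_comm _ _

theorem det_reflM (z : Fin N → K) : (reflM q z).det = 1 + hermForm N K q z z := by
  rw [reflM, Matrix.vecMulVec_eq Unit, Matrix.det_one_add_replicateCol_mul_replicateRow, herm_def, dotProduct]
  congr 1
  exact Finset.sum_congr rfl fun j _ => mul_comm _ _

include hK in
theorem reflM_isom {z : Fin N → K} (hz : hermForm N K q z z = -2) (v w : Fin N → K) :
    hermForm N K q (reflM q z *ᵥ v) (reflM q z *ᵥ w) = hermForm N K q v w := by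
  rw [reflM_mulVec, reflM_mulVec, herm_add_left, herm_add_right hK, herm_add_right hK, herm_smul_left, herm_smul_left,
    herm_smul_right, herm_smul_right, hz, ← herm_swap hK w z]
  ring

end Refl

section Swap

variable {K : Type} [Field K] [Fintype K] {q : ℕ} (hK : Fintype.card K = q ^ 2) (W : WFrame (PU hK 4) 2)

/-- the norm vectors -/
theorem herm_z (i j : Fin 2) : hermForm 4 K q (W.e i - W.f i) (W.e j - W.f j) = if i = j then -2 else 0 := by
  have h1 := W.ee i j
  have h2 := W.ff i j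
  have h3 := W.ef i j
  have h4 := W.fe i j
  rw [HU_h] at h1 h2 h3 h4
  rw [HU_ε] at h4
  rw [herm_sub_left, herm_sub_right hK, herm_sub_right hK, h1, h2, h3, h4]
  split_ifs <;> ring

theorem herm_ez (i j : Fin 2) : hermForm 4 K q (W.e i) (W.e j - W.f j) = if i = j then -1 else 0 := by
  have h1 := W.ee i j
  have h3 := W.ef i j
  rw [HU_h] at h1 h3
  rw [herm_sub_right hK, h1, h3]
  split_ifs <;> ring

theorem herm_fz (i j : Fin 2) : hermForm 4 K q (W.f i) (W.e j - W.f j) = if i = j then 1 else 0 := by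
  have h2 := W.ff i j
  have h4 := W.fe i j
  rw [HU_h] at h2 h4
  rw [HU_ε] at h4
  rw [herm_sub_right hK, h2, h4]
  split_ifs <;> ring

/-- the isometry exchanging the two totally singular planes of the frame -/
theorem exists_swap : ∃ s : SU 4 K q, s * s = 1 ∧
    Nodes.WittRoot.Mono (toFrame W) (toLin K q 4 s) Nodes.TypeC.ng := by
  set z : Fin 2 → Fin 4 → K := fun i => W.e i - W.f i with hz
  have hzz : ∀ i j, hermForm 4 K q (z i) (z j) = if i = j then -2 else 0 := herm_z hK W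
  have hez : ∀ i j, hermForm 4 K q (W.e i) (z j) = if i = j then -1 else 0 := herm_ez hK W
  have hfz : ∀ i j, hermForm 4 K q (W.f i) (z j) = if i = j then 1 else 0 := herm_fz hK W
  have hdet : (reflM q (z 0) * reflM q (z 1)).det = 1 := by
    rw [Matrix.det_mul, det_reflM, det_reflM, hzz, hzz, if_pos rfl, if_pos rfl]
    ring
  have hmv : ∀ v, (reflM q (z 0) * reflM q (z 1)) *ᵥ v =
      v + hermForm 4 K q v (z 1) • z 1 + hermForm 4 K q v (z 0) • z 0 := by
    intro v
    rw [← Matrix.mulVec_mulVec, reflM_mulVec, reflM_mulVec, herm_add_left, herm_smul_left, hzz,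
      if_neg (by decide), mul_zero, add_zero]
  let s0 : SpecialLinearGroup (Fin 4) K := ⟨reflM q (z 0) * reflM q (z 1), hdet⟩
  have hs0 : s0 ∈ SU 4 K q := by
    rw [mem_SU_iff]
    intro u v
    change hermForm 4 K q ((reflM q (z 0) * reflM q (z 1)) *ᵥ u) ((reflM q (z 0) * reflM q (z 1)) *ᵥ v) = _
    rw [← Matrix.mulVec_mulVec, ← Matrix.mulVec_mulVec, reflM_isom hK (by rw [hzz, if_pos rfl]),
      reflM_isom hK (by rw [hzz, if_pos rfl])]
  refine ⟨⟨s0, hs0⟩, ?_, ?_⟩
  · apply Subtype.ext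
    apply Subtype.ext
    change (reflM q (z 0) * reflM q (z 1)) * (reflM q (z 0) * reflM q (z 1)) = 1
    apply Matrix.ext_of_mulVec_single
    intro i
    rw [Matrix.one_mulVec, ← Matrix.mulVec_mulVec, hmv, hmv]
    simp only [herm_add_left, herm_smul_left, hzz]
    simp only [if_true, if_neg (show (0 : Fin 2) ≠ 1 by decide), if_neg (show (1 : Fin 2) ≠ 0 by decide)]
    module
  · rintro ⟨i, b⟩
    refine ⟨1, one_ne_zero, ?_⟩
    rw [one_smul]
    cases b
    · change (reflM q (z 0) * reflM q (z 1)) *ᵥ W.f i = W.e i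
      rw [hmv, hfz, hfz]
      fin_cases i <;> simp [hz]
    · change (reflM q (z 0) * reflM q (z 1)) *ᵥ W.e i = W.f i
      rw [hmv, hez, hez]
      fin_cases i <;> simp [hz]

end Swap

section Main

variable {F : Type*} [Field F] [Finite F] {ι : Type} [Fintype ι] [DecidableEq ι] {P : Subgroup (GL ι F)}
  {K : Type} [Field K] [Fintype K] (p : ℕ) [hp : Fact p.Prime] [hFp : CharP F p] [hKp : CharP K p] {q : ℕ}
include hp hFp hKp

/-- **No symplectic form**: `PSU(4, q)`, `q` odd. -/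
theorem psu4_not_fixA (hp2 : p ≠ 2) (hP : ActsAbsolutelyIrreducibly (matrixSet P)) [Nonempty ι] (hperf : ⁅P, P⁆ = P)
    (hK : Fintype.card K = q ^ 2) (Φ : (P ⧸ (scalars ι F).subgroupOf P) ≃* PSU 4 K q) : ¬ FixA P := by
  have hN : 3 ≤ 4 := by norm_num
  obtain ⟨φ, h1, -, -⟩ := psu_cover p hperf (N := 4) hN hK (by omega) Φ
  obtain ⟨W, hW⟩ := exists_wframe_even (N := 4) (m := 2) hK rfl
  have hk : Kind W := Or.inl hW
  obtain ⟨p0, hp0, -⟩ := exists_adm hK W
  have hA : Nodes.WittAll.AmbT (toFrame W) p (modelSU hK hN W).I :=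
    Nodes.WittAll.AmbT.of_amb (amb_U hK W) p
  haveI : Finite (CoxeterMatrix.B 2).Group := Nodes.TypeC.finite_W (CoxeterMatrix.B 2).toCoxeterSystem
  have R := Nodes.WittAll.rgdC_model (modelSU hK hN W) hA hp0 (CoxeterMatrix.B 2).toCoxeterSystem
  obtain ⟨v, hv, k, hk', h2, h3⟩ := exists_neg (modelSU hK hN W) hA hp0
    (cs := (CoxeterMatrix.B 2).toCoxeterSystem) R.nsys
  obtain ⟨s, hs, hs'⟩ := exists_swap hK W
  have hsI : toLin K q 4 s ∈ (modelSU hK hN W).I := ⟨s, rfl⟩
  have hsφ : (modelSU hK hN W).φ ⟨toLin K q 4 s, hsI⟩ = s := by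
    apply toLin_injective
    exact toLin_ofRange _
  -- `s` represents `v`
  have hrp : Rp (CoxeterMatrix.B 2).toCoxeterSystem R.nsys v s := by
    have h4 : ((modelSU hK hN W).φ ⟨k, hk'⟩)⁻¹ * s ∈
        Nodes.WittModel.T (modelSU hK hN W) := by
      rw [mem_modelT]
      refine ⟨k⁻¹ * toLin K q 4 s, mul_mem (inv_mem hk') hsI, ?_, ?_⟩
      · exact ((h3.inv (ρ := Nodes.TypeC.ng) (fun x => Nodes.TypeC.ng_ng x)).mul hs').congr fun x => Nodes.TypeC.ng_ng x
      · have h5 : (⟨k⁻¹ * toLin K q 4 s, mul_mem (inv_mem hk') hsI⟩ : (modelSU hK hN W).I) =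
            (⟨k, hk'⟩ : (modelSU hK hN W).I)⁻¹ * ⟨toLin K q 4 s, hsI⟩ := rfl
        rw [h5, map_mul, map_inv, hsφ]
    have h5 := h2.mul_mem_right h4
    rwa [mul_inv_cancel_left] at h5
  refine not_fixA R (gg_top (Nodes.WittModel.G1_eq_top _ two_pos _)) (modelT_comm hA (kd_su hk)) h1 hP ?_ (g0 := s) ?_ ?_
  · intro h
    have h5 : ((2 : ℕ) : F) = 0 := by exact_mod_cast h
    rw [CharP.cast_eq_zero_iff F p] at h5
    exact hp2 ((Nat.prime_dvd_prime_iff_eq hp.out Nat.prime_two).1 h5)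
  · intro u hu
    rw [← conj_UN R hv hrp]
    exact conj_mem_cj.2 hu
  · rw [hs, map_one]

end Main

end Cfsg.Agent.H151.Six
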