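import Cfsg.Agent.H905.MdI
import Cfsg.Agent.H914.SixBase

/-!
# The sign of the invariant form in the defining characteristic (helper151)

`R` a root group datum of `Y`, `φ : Y → GL(ι, F)` with absolutely irreducible image `P`, `char F = p` odd,
`g₀ ∈ Y` with `g₀ U g₀⁻¹ ≤ U⁻` and `φ (g₀ ^ 2) = 1`.

* `exists_gram` : the matrix of a bilinear form;
* **`not_skew`** : `P` fixes no non-degenerate skew form; `not_fixA`;
* `psl_not_fixA` : `P / scalars ≃ PSL(m, K)`, `m` not `2` modulo `4`, `p` odd.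
-/

set_option autoImplicit false
set_option linter.unusedSectionVars false

namespace Cfsg.Agent.H151.Six

open Matrix CoxeterSystem Cfsg.Agent.ChevalleyStructure.CoxeterGeom Cfsg.Agent.Tits.Roots Cfsg.Agent.Tits.Core
  Cfsg.Agent.Tits.Exchange Cfsg.Agent.Nodes.Reps Cfsg.Agent.Nodes.BNOf Cfsg.Agent.Nodes.StabComb
  Cfsg.Agent.Nodes.Bruhat Cfsg.Agent.Nodes.OppDec Cfsg.Agent.Nodes.LeviDec Cfsg.Agent.KFacts.RgdOpp
  Cfsg.Agent.Omega.CR Cfsg.Agent.Omega.FOne.Lift.Sd Cfsg.Agent.H911 Cfsg.Agent.H905.Md Cfsg.Agent.Nodes.RGDLib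
  Cfsg.Agent.Nodes.RootsA
open Cfsg.Agent.LieRecognition.BNCox (cA cA_apply)
open Cfsg Cfsg.Geo Cfsg.Agent.H915.LD
open scoped MatrixGroups

/-! ### matrices of forms -/

section Gram

variable {F : Type*} [Field F] {ι : Type} [Fintype ι] [DecidableEq ι]

/-- the matrix of a bilinear form -/
theorem exists_gram {f : (ι → F) → (ι → F) → F} (hf : IsBilinearForm f) :
    ∃ B : Matrix ι ι F, ∀ u v, f u v = u ⬝ᵥ (B *ᵥ v) := by
  let fl : (ι → F) →ₗ[F] (ι → F) →ₗ[F] F :=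
    LinearMap.mk₂ F f hf.add_left (fun c u v => hf.smul_left c u v) (fun u v w => hf.add_right u v w)
      (fun c u v => hf.smul_right c u v)
  refine ⟨LinearMap.toMatrix₂' F fl, fun u v => ?_⟩
  have h1 := Matrix.toLinearMap₂'_apply' (T := F) (LinearMap.toMatrix₂' F fl) u v
  rw [Matrix.toLinearMap₂'_toMatrix'] at h1
  exact h1

theorem ext_dot {A B : Matrix ι ι F} (h : ∀ u v : ι → F, u ⬝ᵥ (A *ᵥ v) = u ⬝ᵥ (B *ᵥ v)) : A = B := by
  ext i j
  have h1 := h (Pi.single i 1) (Pi.single j 1)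
  rw [single_one_dotProduct, single_one_dotProduct, Matrix.mulVec_single_one, Matrix.mulVec_single_one] at h1
  exact h1

theorem dot_mulVec_left (g B : Matrix ι ι F) (u v : ι → F) : (g *ᵥ u) ⬝ᵥ (B *ᵥ v) = u ⬝ᵥ ((gᵀ * B) *ᵥ v) := by
  rw [← Matrix.mulVec_mulVec, Matrix.dotProduct_mulVec u, Matrix.vecMul_transpose]

/-- the matrix of a symplectic form fixed by `P` -/
theorem exists_skew {P : Subgroup (GL ι F)} (h : FixA P) :
    ∃ B : Matrix ι ι F, Bᵀ = -B ∧ IsUnit B.det ∧ ∀ g ∈ P, (g : Matrix ι ι F)ᵀ * B * (g : Matrix ι ι F) = B := by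
  obtain ⟨f, hf, hfix⟩ := h
  obtain ⟨B, hB⟩ := exists_gram hf.bilinear
  refine ⟨B, ?_, ?_, ?_⟩
  · apply ext_dot
    intro u v
    have h1 := hf.skew u v
    rw [hB, hB] at h1
    have h2 : u ⬝ᵥ (Bᵀ *ᵥ v) = v ⬝ᵥ (B *ᵥ u) := by
      rw [Matrix.mulVec_transpose, dotProduct_comm, Matrix.dotProduct_mulVec]
    rw [h2, Matrix.neg_mulVec, dotProduct_neg, h1, neg_neg]
  · rw [← Matrix.isUnit_iff_isUnit_det, ← Matrix.mulVec_injective_iff_isUnit]
    rw [← Matrix.coe_mulVecLin, injective_iff_map_eq_zero]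
    intro v hv
    by_contra hv0
    obtain ⟨⟨x, hx⟩, -⟩ := hf.nondegenerate v hv0
    apply hx
    rw [Matrix.mulVecLin_apply] at hv
    rw [hB, hv, dotProduct_zero]
  · intro g hg
    apply ext_dot
    intro u v
    have h1 := hfix _ ⟨g, hg, rfl⟩ u v
    dsimp only at h1
    rw [hB, hB, dot_mulVec_left, Matrix.mulVec_mulVec] at h1
    exact h1

end Gram

section Main

variable {I W Y : Type*} [Fintype I] [DecidableEq I] [Group W] [Group Y] {M : CoxeterMatrix I}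
  {cs : CoxeterSystem M W} {A : I → I → ℤ} {h : IsCartan M A} {p : ℕ} {T : Subgroup Y} {n : I → Y}
  {X : (I → ℤ) → Subgroup Y} {F : Type*} [Field F] {ι : Type} [Fintype ι] [DecidableEq ι]
  {P : Subgroup (GL ι F)}

variable (R : RGD cs h p T n X) [Finite Y] [Finite W] [Fact p.Prime] [CharP F p] [Nonempty ι]
  (hG : GG cs h T X = ⊤) (hT : ∀ s ∈ T, ∀ t ∈ T, s * t = t * s) {φ : Y →* GL ι F} (hφ : φ.range = P)
  (hP : ActsAbsolutelyIrreducibly (matrixSet P))
include R hG hT hφ hP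

/-- **No skew form.** -/
theorem not_skew (h2 : (2 : F) ≠ 0) {B : Matrix ι ι F} (hskew : Bᵀ = -B) (hdet : IsUnit B.det)
    (hfix : ∀ g ∈ P, (g : Matrix ι ι F)ᵀ * B * (g : Matrix ι ι F) = B) {g0 : Y}
    (hU : ∀ u ∈ RGD.Sup X (RGD.Pos cs h), g0 * u * g0⁻¹ ∈ UN cs h X) (hg0 : φ (g0 * g0) = 1) : False := by
  classical
  have hchar : CharP (AlgebraicClosure F) p := charP_of_injective_algebraMap (algebraMap F _).injective p
  have hirr := ac_irr R hG hT hφ hP
  obtain ⟨c, hc, hc0, χ, hχ⟩ := exists_chi R hirr hT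
  obtain ⟨ψ, hψ, hψc⟩ := exists_pair R (lin (acRep φ)) hirr hc hc0
  set B' : Matrix ι ι (AlgebraicClosure F) := B.map (algebraMap F (AlgebraicClosure F)) with hB'
  have hdet' : IsUnit B'.det := by
    have h1 : B'.det = algebraMap F (AlgebraicClosure F) B.det := (RingHom.map_det _ B).symm
    rw [h1]
    exact hdet.map _
  have hskew' : B'ᵀ = -B' := by
    rw [hB', ← Matrix.transpose_map, hskew]
    ext i j
    simp
  have hfix' : ∀ y : Y, (acRep φ y)ᵀ * B' * acRep φ y = B' := by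
    intro y
    have h1 := hfix (φ y) (by rw [← hφ]; exact ⟨y, rfl⟩)
    have h3 := congrArg (fun N : Matrix ι ι F => N.map (algebraMap F (AlgebraicClosure F))) h1
    rw [Matrix.map_mul, Matrix.map_mul, Matrix.transpose_map] at h3
    exact h3
  have hform : ∀ (y : Y) (u v : ι → AlgebraicClosure F),
      (lin (acRep φ) y u) ⬝ᵥ (B' *ᵥ (lin (acRep φ) y v)) = u ⬝ᵥ (B' *ᵥ v) := by
    intro y u v
    rw [lin_apply, lin_apply, dot_mulVec_left, Matrix.mulVec_mulVec, hfix']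
  -- the functional as a vector
  obtain ⟨w, hw⟩ : ∃ w, ∀ x, ψ x = x ⬝ᵥ (B' *ᵥ w) := by
    refine ⟨B'⁻¹ *ᵥ (fun i => ψ (Pi.single i 1)), fun x => ?_⟩
    rw [Matrix.mulVec_mulVec, Matrix.mul_nonsing_inv _ hdet', Matrix.one_mulVec]
    conv_lhs => rw [← Finset.univ_sum_single x]
    rw [map_sum]
    refine Finset.sum_congr rfl fun i _ => ?_
    have h1 : (Pi.single i (x i) : ι → AlgebraicClosure F) = x i • Pi.single i 1 := by
      rw [← Pi.single_smul, smul_eq_mul, mul_one]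
    rw [h1, map_smul, smul_eq_mul]
  have hwfix : ∀ u ∈ UN cs h X, lin (acRep φ) u w = w := by
    intro u hu
    have h1 : ∀ x, x ⬝ᵥ (B' *ᵥ (lin (acRep φ) u w)) = x ⬝ᵥ (B' *ᵥ w) := by
      intro x
      have h3 := hform u (lin (acRep φ) u⁻¹ x) w
      rw [rho_rho_inv] at h3
      rw [h3, ← hw, ← hw]
      exact (mem_fx_dual (lin (acRep φ))).1 hψ _ (inv_mem hu) x
    have h3 : B' *ᵥ (lin (acRep φ) u w) = B' *ᵥ w := by
      funext i
      have h4 := h1 (Pi.single i 1)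
      rwa [single_one_dotProduct, single_one_dotProduct] at h4
    have h4 := congrArg (fun z => B'⁻¹ *ᵥ z) h3
    rwa [Matrix.mulVec_mulVec, Matrix.mulVec_mulVec, Matrix.nonsing_inv_mul _ hdet', Matrix.one_mulVec,
      Matrix.one_mulVec] at h4
  have hspan := fx_eq_span R (lin (acRep φ)) hirr hc hc0 hχ
  have h5 : lin (acRep φ) g0⁻¹ w ∈ fx (lin (acRep φ)) (RGD.Sup X (RGD.Pos cs h)) := by
    intro u hu
    have h6 := hwfix _ (hU u hu)
    have e : u * g0⁻¹ = g0⁻¹ * (g0 * u * g0⁻¹) := by group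
    rw [← rho_mul, e, rho_mul, h6]
  rw [hspan] at h5
  obtain ⟨a, ha⟩ := Submodule.mem_span_singleton.1 h5
  have hwa : w = a • lin (acRep φ) g0 c := by
    have h6 := congrArg (lin (acRep φ) g0) ha
    rw [rho_rho_inv, map_smul] at h6
    exact h6.symm
  have hs : c ⬝ᵥ (B' *ᵥ (lin (acRep φ) g0 c)) ≠ 0 := by
    intro h0
    apply hψc
    rw [hw, hwa, Matrix.mulVec_smul, dotProduct_smul, h0, smul_zero]
  -- the sign
  have hg0' : lin (acRep φ) g0 (lin (acRep φ) g0 c) = c := by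
    rw [← rho_mul, lin_apply, acRep_apply, hg0, Units.val_one,
      Matrix.map_one _ (map_zero _) (map_one _), Matrix.one_mulVec]
  have h7 := hform g0 c (lin (acRep φ) g0 c)
  rw [hg0'] at h7
  have h8 : (lin (acRep φ) g0 c) ⬝ᵥ (B' *ᵥ c) = -(c ⬝ᵥ (B' *ᵥ (lin (acRep φ) g0 c))) := by
    have h9 : ∀ u v : ι → AlgebraicClosure F, u ⬝ᵥ (B' *ᵥ v) = -(v ⬝ᵥ (B' *ᵥ u)) := by
      intro u v
      have h10 : v ⬝ᵥ (B' *ᵥ u) = u ⬝ᵥ (B'ᵀ *ᵥ v) := by
        rw [Matrix.mulVec_transpose, dotProduct_comm u, ← Matrix.dotProduct_mulVec]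
      rw [h10, hskew', Matrix.neg_mulVec, dotProduct_neg, neg_neg]
    exact h9 _ _
  rw [h8] at h7
  have h9 : (2 : AlgebraicClosure F) * (c ⬝ᵥ (B' *ᵥ (lin (acRep φ) g0 c))) = 0 := by
    linear_combination -h7
  rcases mul_eq_zero.1 h9 with h10 | h10
  · apply h2
    apply (algebraMap F (AlgebraicClosure F)).injective
    rw [map_ofNat, h10, map_zero]
  · exact hs h10

theorem not_fixA (h2 : (2 : F) ≠ 0) {g0 : Y}
    (hU : ∀ u ∈ RGD.Sup X (RGD.Pos cs h), g0 * u * g0⁻¹ ∈ UN cs h X) (hg0 : φ (g0 * g0) = 1) : ¬ FixA P := by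
  intro hA
  obtain ⟨B, h1, h3, h4⟩ := exists_skew hA
  exact not_skew R hG hT hφ hP h2 h1 h3 h4 hU hg0

end Main


/-! ### `SL` -/

section SL

variable {K : Type*} [Field K] {l : ℕ}

theorem rev_mul : (Fin.revPerm : Equiv.Perm (Fin (l + 1))) * Fin.revPerm = 1 := by
  ext i
  simp [Equiv.Perm.mul_apply]

theorem rev_fixedPoints (hl : (l + 1) % 2 = 0) :
    Function.fixedPoints (Fin.revPerm : Equiv.Perm (Fin (l + 1))) = ∅ := by
  apply Set.eq_empty_of_forall_notMem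
  intro i hi
  have h1 : (Fin.revPerm : Equiv.Perm (Fin (l + 1))) i = i := hi
  rw [Fin.revPerm_apply, Fin.ext_iff, Fin.val_rev] at h1
  have := i.2
  omega

/-- the permutation matrix of a permutation -/
theorem exists_involution (hl : (l + 1) % 4 ≠ 2) :
    ∃ g : SpecialLinearGroup (Fin (l + 1)) K, Nodes.RGDTypeA.Mono Fin.revPerm g ∧ g * g = 1 := by
  set σ : Equiv.Perm (Fin (l + 1)) := Fin.revPerm with hσ
  -- the sign
  obtain ⟨ε, hε, hdet⟩ : ∃ ε : K, ε * ε = 1 ∧ ε ^ (l + 1) * (Equiv.Perm.sign σ : ℤ) = 1 := by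
    rcases Nat.even_or_odd (l + 1) with he | ho
    · refine ⟨1, by ring, ?_⟩
      have h1 : Equiv.Perm.sign σ = 1 := by
        rw [Equiv.Perm.sign_of_pow_two_eq_one (by rw [pow_two]; exact rev_mul), Fintype.card_fin,
          ← Nat.card_eq_fintype_card, rev_fixedPoints (Nat.even_iff.1 he)]
        simp only [Nat.card_eq_fintype_card, Set.card_empty, Nat.sub_zero]
        have h2 : Even ((l + 1) / 2) := by
          rw [Nat.even_iff] at he ⊢
          omega
        exact h2.neg_one_pow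
      rw [h1]
      simp
    · rcases Int.units_eq_one_or (Equiv.Perm.sign σ) with h1 | h1
      · exact ⟨1, by ring, by rw [h1]; simp⟩
      · refine ⟨-1, by ring, ?_⟩
        rw [h1, ho.neg_one_pow]
        simp
  have hm : (ε • σ.permMatrix K) * (ε • σ.permMatrix K) = 1 := by
    rw [smul_mul_smul_comm, hε, one_smul, ← Matrix.permMatrix_mul, rev_mul, Matrix.permMatrix_one]
  refine ⟨⟨ε • σ.permMatrix K, ?_⟩, ?_, ?_⟩
  · rw [Matrix.det_smul, Matrix.det_permutation, Fintype.card_fin]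
    exact_mod_cast hdet
  · intro a b h
    have h1 : ε * (σ.permMatrix K) a b ≠ 0 := h
    have h2 : (σ.permMatrix K) a b ≠ 0 := right_ne_zero_of_mul h1
    rw [Equiv.Perm.permMatrix, PEquiv.toMatrix_apply] at h2
    by_contra hne
    apply h2
    rw [if_neg]
    simp only [Equiv.toPEquiv_apply, Option.mem_def, Option.some.injEq]
    rintro rfl
    apply hne
    simp [hσ]
  · apply Subtype.ext
    exact hm

theorem cj_le {g : SpecialLinearGroup (Fin (l + 1)) K} (hg : Nodes.RGDTypeA.Mono Fin.revPerm g) {W : Type*} [Group W]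
    (cs : CoxeterSystem (cA l) W) {A : Fin l → Fin l → ℤ} (h : IsCartan (cA l) A)
    (u : SpecialLinearGroup (Fin (l + 1)) K) (hu : u ∈ RGD.Sup (Nodes.RGDTypeA.X K) (RGD.Pos cs h)) :
    g * u * g⁻¹ ∈ UN cs h (Nodes.RGDTypeA.X K) := by
  have h1 : cj g (RGD.Sup (Nodes.RGDTypeA.X K) (RGD.Pos cs h)) ≤ UN cs h (Nodes.RGDTypeA.X K) := by
    rw [RGD.cj_Sup]
    refine iSup_le fun z => ?_
    obtain ⟨a, b, hab, hz⟩ := (isRoot_iff cs h).1 z.2.1
    have h0 := z.2.2
    rw [hz] at h0 ⊢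
    rw [Nodes.RGDTypeA.X_rtA hab, hg.cj_XX hab, ← Nodes.RGDTypeA.X_rtA (fun e => hab (Fin.revPerm.injective e))]
    refine X_le_UN ((isRoot_iff cs h).2 ⟨_, _, fun e => hab (Fin.revPerm.injective e), rfl⟩) ?_
    -- the sign
    have hlt : a < b := by
      by_contra hcon
      have hba : b < a := lt_of_le_of_ne (not_lt.1 hcon) (Ne.symm hab)
      have h3 := h0 ⟨b.val, by have := a.2; omega⟩
      rw [rtA_apply, if_neg (by simp only [not_le]; exact hba), if_pos le_rfl] at h3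
      simp at h3
    intro k
    rw [rtA_apply]
    simp only [Fin.revPerm_apply, Fin.val_rev, Pi.zero_apply]
    have := a.2
    have := b.2
    have h5 : a.val < b.val := hlt
    split_ifs <;> omega
  exact h1 (conj_mem_cj.2 hu)

end SL

section PSL

variable {F : Type*} [Field F] [Finite F] {ι : Type} [Fintype ι] [DecidableEq ι] {P : Subgroup (GL ι F)}
  {K : Type*} [Field K] [Finite K] (p : ℕ) [hp : Fact p.Prime] [hFp : CharP F p] [hKp : CharP K p] {l : ℕ}
include hp hFp hKp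

/-- **No symplectic form**: `PSL(l + 1, K)`, `l + 1` not `2` modulo `4`, `p` odd. -/
theorem psl_not_fixA (hp2 : p ≠ 2) (hP : ActsAbsolutelyIrreducibly (matrixSet P)) (hperf : ⁅P, P⁆ = P) (hl : 1 ≤ l)
    (hK : l = 1 → 4 ≤ Nat.card K) (h4 : (l + 1) % 4 ≠ 2)
    (Φ : (P ⧸ (scalars ι F).subgroupOf P) ≃* ProjectiveSpecialLinearGroup (Fin (l + 1)) K) : ¬ FixA P := by
  obtain ⟨φ, hφ, -, -⟩ := psl_cover p hperf hl hK Φ
  have h2 := nonempty_of_psl hperf hl hK Φ
  haveI : Nonempty ι := Fintype.card_pos_iff.1 (by omega)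
  haveI : Finite (cA l).Group := finite_W (cA l).toCoxeterSystem (isCartan l)
  obtain ⟨g0, hg0, hsq⟩ := exists_involution (K := K) h4
  refine not_fixA (Nodes.RGDTypeA.rgd (cA l).toCoxeterSystem (isCartan l) (F := K) (p := p))
    (gg_eq_top (Nodes.RGDTypeA.G1_eq_top _ _)) slT_comm hφ hP ?_ (g0 := g0) (cj_le hg0 _ _) ?_
  · intro h
    have h5 : ((2 : ℕ) : F) = 0 := by exact_mod_cast h
    rw [CharP.cast_eq_zero_iff F p] at h5
    exact hp2 ((Nat.prime_dvd_prime_iff_eq hp.out Nat.prime_two).1 h5)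
  · rw [hsq, map_one]

end PSL

end Cfsg.Agent.H151.Six
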